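import Groth.Agent.L07.CplNormalDescent
import Groth.Agent.L00.ProperNorm
import Groth.Agent.L19.NormalSections
import Groth.Agent.L03.RegularNormal
import Groth.Agent.L07.RatSection
import Groth.Agent.L01.Regular
import Groth.Agent.S1597
import Groth.Agent.S1600
import Mathlib.AlgebraicGeometry.Morphisms.Flat

/-! Normality of completions under a regular alteration. -/

set_option autoImplicit false
set_option maxSynthPendingDepth 5
set_option linter.style.haveILetI false
set_option backward.isDefEq.respectTransparency false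
set_option backward.isDefEq.respectTransparency.types false
set_option maxHeartbeats 800000

universe u

open CategoryTheory CategoryTheory.Limits AlgebraicGeometry TopologicalSpace IsLocalRing Polynomial Opposite
open scoped TensorProduct

noncomputable section

namespace Groth.L05.PtChain

section Gamma

variable {X : Scheme.{u}} [IsLocallyNoetherian X]
  (hN : ∀ x : X, IsDomain (X.presheaf.stalk x) ∧ IsIntegrallyClosed (X.presheaf.stalk x))

include hN in
/-- A non zero divisor of the global functions has non zero germs. -/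
theorem germ_ne_zero {b : Γ(X, ⊤)} (hb : b ∈ nonZeroDivisors Γ(X, ⊤)) (x : X) :
    X.presheaf.germ ⊤ x trivial b ≠ 0 := by
  classical
  intro hx
  let Z : Set X := {z | X.presheaf.germ ⊤ z trivial b = 0}
  have hZ : IsOpen Z := isOpen_iff_forall_mem_open.2 fun z hz => by
    obtain ⟨W, hzW, i₁, i₂, h⟩ := X.presheaf.germ_eq (U := ⊤) (V := ⊤) z trivial trivial b (0 : Γ(X, ⊤))
      (by rw [map_zero]; exact hz)
    refine ⟨W, fun w hw => ?_, W.2, hzW⟩
    show X.presheaf.germ ⊤ w trivial b = 0
    rw [← TopCat.Presheaf.germ_res_apply X.presheaf i₁ w hw b, h, map_zero, map_zero]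
  have hZc : IsOpen Zᶜ := isOpen_iff_forall_mem_open.2 fun z hz => by
    haveI := (hN z).1
    obtain ⟨V, hzV, -, hV⟩ := Groth.L07.RatSection.exists_integral_nhd z
    refine ⟨V, fun w hw hw0 => hz ?_, V.2, hzV⟩
    haveI := hV
    show X.presheaf.germ ⊤ z trivial b = 0
    have e : ∀ (y : X) (hy : y ∈ V), X.presheaf.germ ⊤ y trivial b =
        ((V.stalkIso ⟨y, hy⟩).hom) ((V : Scheme.{u}).presheaf.germ ⊤ ⟨y, hy⟩ trivial (V.ι.appTop b)) := by
      intro y hy
      rw [show (V : Scheme.{u}).presheaf.germ ⊤ ⟨y, hy⟩ trivial (V.ι.appTop b) =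
        V.ι.stalkMap ⟨y, hy⟩ (X.presheaf.germ ⊤ y trivial b) from
        (Scheme.Hom.germ_stalkMap_apply V.ι ⊤ ⟨y, hy⟩ trivial b).symm, ← Scheme.Opens.stalkIso_inv]
      exact (Iso.inv_hom_id_apply _ _).symm
    have hb0 : V.ι.appTop b = 0 := by
      refine germ_injective_of_isIntegral (V : Scheme.{u}) ⟨w, hw⟩ (U := ⊤) trivial ?_
      rw [map_zero]
      refine (V.stalkIso ⟨w, hw⟩).commRingCatIsoToRingEquiv.injective ?_
      rw [map_zero]
      exact (e w hw).symm.trans hw0
    rw [e z hzV, hb0, map_zero, map_zero]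
  let U : Bool → X.Opens := fun c => if c then ⟨Z, hZ⟩ else ⟨Zᶜ, hZc⟩
  have hcov : (⊤ : X.Opens) ≤ iSup U := fun z _ => by
    by_cases hz : z ∈ Z
    · exact Opens.mem_iSup.2 ⟨true, hz⟩
    · exact Opens.mem_iSup.2 ⟨false, hz⟩
  obtain ⟨e, he, -⟩ : ∃! e : Γ(X, ⊤), ∀ c, X.presheaf.map (homOfLE (le_top : U c ≤ ⊤)).op e =
      if c then 1 else 0 := TopCat.Sheaf.existsUnique_gluing' X.sheaf U ⊤ (fun _ => homOfLE le_top) hcov
    (fun c => if c then 1 else 0) (fun c d => by
      refine TopCat.Presheaf.section_ext X.sheaf _ _ _ fun z hz => ?_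
      rcases Bool.eq_false_or_eq_true c with rfl | rfl <;> rcases Bool.eq_false_or_eq_true d with rfl | rfl
      · rfl
      · exact absurd (show z ∈ Z from hz.1) hz.2
      · exact absurd (show z ∈ Z from hz.2) hz.1
      · rfl)
  have hgerm : ∀ (c : Bool) (z : X) (hz : z ∈ U c),
      X.presheaf.germ ⊤ z trivial e = if c then 1 else 0 := fun c z hz => by
    refine (TopCat.Presheaf.germ_res_apply X.presheaf (homOfLE le_top) z hz e).symm.trans ?_
    refine (congrArg (X.presheaf.germ (U c) z hz) (he c)).trans ?_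
    cases c
    · exact map_zero _
    · exact map_one _
  have hbe : b * (e : Γ(X, ⊤)) = 0 := TopCat.Presheaf.section_ext X.sheaf _ _ _ fun z _ => by
    show X.presheaf.germ ⊤ z trivial (b * e) = X.presheaf.germ ⊤ z trivial 0
    rw [map_mul, map_zero]
    by_cases hz : z ∈ Z
    · rw [show X.presheaf.germ ⊤ z trivial b = 0 from hz, zero_mul]
    · rw [hgerm false z hz, if_neg Bool.false_ne_true, mul_zero]
  have he0 : e = 0 := (mem_nonZeroDivisors_iff_left.1 hb) e hbe
  have h1 := hgerm true x hx
  rw [he0, map_zero, if_pos rfl] at h1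
  haveI := (hN x).1
  exact zero_ne_one h1

include hN in
/-- The global functions of a normal scheme form a normal ring. -/
theorem isNormalRing_global [IsNoetherianRing Γ(X, ⊤)] : EGA4.IsNormalRing Γ(X, ⊤) := by
  haveI : ∀ x : X, _root_.IsReduced (X.presheaf.stalk x) := fun x => by
    haveI := (hN x).1
    infer_instance
  haveI : AlgebraicGeometry.IsReduced X := isReduced_of_isReduced_stalk X
  refine Groth.L07.CplNormalDescent.normal_of_IC fun y hy => ?_
  obtain ⟨p, hp, hpy⟩ := hy
  obtain ⟨⟨a, b⟩, hab⟩ := IsLocalization.surj (nonZeroDivisors Γ(X, ⊤)) y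
  have hrel := Groth.L07.CplNormalDescent.scaleRoots_eval_eq_zero_of p
    (IsFractionRing.injective _ (FractionRing Γ(X, ⊤))) hpy hab
  have hloc : ∀ x : X, ∃ (W : X.Opens) (_ : x ∈ W) (z : Γ(X, W)),
      z * X.presheaf.map (homOfLE le_top).op b.1 = X.presheaf.map (homOfLE le_top).op a := by
    intro x
    haveI := (hN x).1
    haveI := (hN x).2
    let g := (X.presheaf.germ ⊤ x trivial).hom
    let K := FractionRing (X.presheaf.stalk x)
    have hb0 : g b.1 ≠ 0 := germ_ne_zero hN b.2 x
    have hK : algebraMap _ K (g b.1) ≠ 0 := (map_ne_zero_iff _ (IsFractionRing.injective _ K)).2 hb0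
    obtain ⟨c, hc⟩ : ∃ c, algebraMap _ K c = algebraMap _ K (g a) / algebraMap _ K (g b.1) := by
      refine IsIntegrallyClosed.isIntegral_iff.1 ⟨p.map g, hp.map g, ?_⟩
      rw [eval₂_map]
      refine (mul_eq_zero.1 ?_).resolve_left (pow_ne_zero p.natDegree hK)
      have h1 := scaleRoots_eval₂_mul (R := K) ((algebraMap _ K).comp g) (p := p)
        (algebraMap _ K (g a) / algebraMap _ K (g b.1)) b.1
      rw [show ((algebraMap (X.presheaf.stalk x) K).comp g) b.1 = algebraMap _ K (g b.1) from rfl,
        mul_div_cancel₀ _ hK] at h1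
      rw [← h1, show algebraMap (X.presheaf.stalk x) K (g a) = ((algebraMap (X.presheaf.stalk x) K).comp g) a from rfl,
        eval₂_at_apply, hrel, map_zero]
    have hcb : c * g b.1 = g a := IsFractionRing.injective _ K (by
      rw [map_mul, hc, div_mul_cancel₀ _ hK])
    obtain ⟨W, hxW, z, hz⟩ := X.presheaf.exists_germ_eq c
    have h2 : X.presheaf.germ W x hxW (z * X.presheaf.map (homOfLE le_top).op b.1) =
        X.presheaf.germ W x hxW (X.presheaf.map (homOfLE le_top).op a) := by
      rw [map_mul, hz, TopCat.Presheaf.germ_res_apply, TopCat.Presheaf.germ_res_apply]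
      exact hcb
    obtain ⟨W', hxW', i₁, i₂, h⟩ := X.presheaf.germ_eq x hxW hxW _ _ h2
    refine ⟨W', hxW', X.presheaf.map i₁.op z, ?_⟩
    rw [map_mul, ← CommRingCat.comp_apply, ← CommRingCat.comp_apply, ← X.presheaf.map_comp,
      ← X.presheaf.map_comp] at h
    exact h
  choose W hW z hz using hloc
  have hgz : ∀ (x w : X) (hw : w ∈ W x), X.presheaf.germ (W x) w hw (z x) * X.presheaf.germ ⊤ w trivial b.1 =
      X.presheaf.germ ⊤ w trivial a := fun x w hw => by
    have h1 := congrArg (X.presheaf.germ (W x) w hw) (hz x)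
    rwa [map_mul, TopCat.Presheaf.germ_res_apply, TopCat.Presheaf.germ_res_apply] at h1
  obtain ⟨s, hs, -⟩ : ∃! s : Γ(X, ⊤), ∀ x, X.presheaf.map (homOfLE (le_top : W x ≤ ⊤)).op s = z x :=
    TopCat.Sheaf.existsUnique_gluing' X.sheaf W ⊤ (fun _ => homOfLE le_top)
    (fun w _ => Opens.mem_iSup.2 ⟨w, hW w⟩) z (fun x x' => by
      refine TopCat.Presheaf.section_ext X.sheaf _ _ _ fun w hw => ?_
      refine (TopCat.Presheaf.germ_res_apply X.presheaf _ w hw _).trans
        (Eq.trans ?_ (TopCat.Presheaf.germ_res_apply X.presheaf _ w hw _).symm)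
      haveI := (hN w).1
      exact mul_right_cancel₀ (germ_ne_zero hN b.2 w) ((hgz x w hw.1).trans (hgz x' w hw.2).symm))
  have hsb : (s : Γ(X, ⊤)) * b.1 = a := TopCat.Presheaf.section_ext X.sheaf _ _ _ fun w _ => by
    show X.presheaf.germ ⊤ w trivial (s * b.1) = X.presheaf.germ ⊤ w trivial a
    rw [map_mul, ← hgz w w (hW w)]
    congr 1
    exact (TopCat.Presheaf.germ_res_apply X.presheaf (homOfLE le_top) w (hW w) s).symm.trans
      (congrArg (X.presheaf.germ (W w) w (hW w)) (hs w))
  refine ⟨s, (IsLocalization.map_units (FractionRing Γ(X, ⊤)) b).mul_left_cancel ?_⟩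
  rw [← map_mul, mul_comm, hsb, ← hab, mul_comm]

end Gamma

/-- Global functions after a flat base change. -/
theorem nonempty_global_baseChange (A B : Type u) [CommRing A] [CommRing B] [Algebra A B] [Module.Flat A B]
    {X : Scheme.{u}} (f : X ⟶ Spec (CommRingCat.of A)) [QuasiCompact f] [QuasiSeparated f] :
    letI := (Groth.L00.ProperNorm.glob f).toAlgebra
    Nonempty ((B ⊗[A] Γ(X, ⊤)) ≃+*
      Γ(pullback f (Spec.map (CommRingCat.ofHom (algebraMap A B))), ⊤)) := by
  letI := (Groth.L00.ProperNorm.glob f).toAlgebra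
  let φ := Spec.map (CommRingCat.ofHom (algebraMap A B))
  haveI : Flat φ := by
    rw [HasRingHomProperty.Spec_iff (P := @Flat)]
    exact RingHom.flat_algebraMap_iff.2 inferInstance
  have H : IsPullback (pullback.fst f φ) (pullback.snd f φ) f φ := IsPullback.of_hasPullback _ _
  haveI : CompactSpace X := QuasiCompact.compactSpace_of_compactSpace f
  haveI : QuasiSeparatedSpace X := quasiSeparatedSpace_of_quasiSeparated f
  haveI := isIso_pushoutSection_of_isQuasiSeparated_of_flat_right H (US := ⊤) (UT := ⊤) (UX := ⊤) (UY := ⊤)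
    (by simp) (by simp) (by simp) (isAffineOpen_top _) (isAffineOpen_top _) isCompact_univ
    ((isQuasiSeparated_univ_iff).2 inferInstance)
  have h1 := (isIso_pushoutSection_iff H (US := ⊤) (UT := ⊤) (UX := ⊤) (UY := ⊤)
    _ _ _).1 inferInstance
  have h2 : IsPushout (CommRingCat.ofHom (algebraMap A Γ(X, ⊤))) (CommRingCat.ofHom (algebraMap A B))
      (pullback.fst f φ).appTop ((Scheme.ΓSpecIso (CommRingCat.of B)).inv ≫ (pullback.snd f φ).appTop) := by
    refine h1.of_iso (Scheme.ΓSpecIso (CommRingCat.of A)) (Iso.refl _) (Scheme.ΓSpecIso (CommRingCat.of B))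
      (Iso.refl _) ?_ ?_ ?_ ?_
    · simp only [Iso.refl_hom, Category.comp_id]
      show _ = (Scheme.ΓSpecIso (CommRingCat.of A)).hom ≫ (Scheme.ΓSpecIso (CommRingCat.of A)).inv ≫ f.appTop
      rw [Iso.hom_inv_id_assoc]
      simp [Scheme.Hom.app_eq_appLE]
    · rw [show φ.appLE ⊤ ⊤ (by simp) = φ.appTop by simp [Scheme.Hom.app_eq_appLE]]
      exact Scheme.ΓSpecIso_naturality _
    · simp [Scheme.Hom.app_eq_appLE]
    · simp [Scheme.Hom.app_eq_appLE]
  exact ⟨((CommRingCat.isPushout_tensorProduct A B Γ(X, ⊤)).isoIsPushout _ _ h2.flip).commRingCatIsoToRingEquiv⟩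

variable (A : Type u) [CommRing A] [IsLocalRing A] [IsNoetherianRing A]

/-- The completed ring of global functions of a regular proper scheme is normal. -/
theorem isNormalRing_tensor_global {X : Scheme.{u}} (f : X ⟶ Spec (CommRingCat.of A)) [IsProper f]
    (hreg : ∀ x : X, IsRegularLocalRing (X.presheaf.stalk x)) :
    letI := (Groth.L00.ProperNorm.glob f).toAlgebra
    EGA4.IsNormalRing ((Curv2.cpl A) ⊗[A] Γ(X, ⊤)) := by
  letI := (Groth.L00.ProperNorm.glob f).toAlgebra
  haveI : Module.Flat A (Curv2.cpl A) := AdicCompletion.flat_of_isNoetherian _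
  obtain ⟨e⟩ := nonempty_global_baseChange A (Curv2.cpl A) f
  haveI : IsNoetherianRing (Curv2.cpl A) := Groth.L01.AnalUnram.isNoetherianRing_completion A
  haveI : IsProper (Curv2.bcCplSnd A f) :=
    MorphismProperty.pullback_snd (P := @IsProper) _ _ inferInstance
  haveI : IsLocallyNoetherian (Curv2.bcCpl A f) :=
    LocallyOfFiniteType.isLocallyNoetherian (Curv2.bcCplSnd A f)
  haveI : Module.Finite A Γ(X, ⊤) := Groth.L00.ProperNorm.finite_toGlobal f
  haveI : IsNoetherianRing ((Curv2.cpl A) ⊗[A] Γ(X, ⊤)) := IsNoetherianRing.of_finite (Curv2.cpl A) _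
  haveI : IsNoetherianRing Γ(Curv2.bcCpl A f, ⊤) := isNoetherianRing_of_ringEquiv _ e
  have hreg' := (Groth.Agent.S1597.result A X f).1 hreg
  exact Groth.L06.NormalAscent.isNormalRing_of_ringEquiv e.symm (isNormalRing_global fun y => by
    haveI := hreg' y
    exact ⟨Groth.L01.isDomain_of_regular _, Groth.L03.RegularNormal.isIntegrallyClosed _⟩)

/-- Completions of the integral closure are normal if there is a regular alteration. -/
theorem normal_completion_integralClosure [IsDomain A] {X : Scheme.{u}} [IsIntegral X]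
    (f : X ⟶ Spec (CommRingCat.of A)) [IsProper f] [IsDominant f]
    (hreg : ∀ x : X, IsRegularLocalRing (X.presheaf.stalk x)) :
    EGA4.IsNormalRing (AdicCompletion ((maximalIdeal A).map
      (algebraMap A (integralClosure A (FractionRing A)))) (integralClosure A (FractionRing A))) := by
  let C := integralClosure A (FractionRing A)
  have hN : ∀ x : X, IsIntegrallyClosed (X.presheaf.stalk x) := fun x => by
    haveI := hreg x
    exact Groth.L03.RegularNormal.isIntegrallyClosed _
  haveI : Module.Finite A C := Groth.Agent.S1600.isN1_of_regular A X f hN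
  letI : Algebra A Γ(X, ⊤) := (Groth.L00.ProperNorm.glob f).toAlgebra
  haveI : Module.Finite A Γ(X, ⊤) := Groth.L00.ProperNorm.finite_toGlobal f
  have hξ : genericPoint X ∈ (⊤ : X.Opens) := trivial
  let γ : Γ(X, ⊤) →+* X.functionField := (X.presheaf.germ ⊤ (genericPoint X) hξ).hom
  have hγ : Function.Injective γ := germ_injective_of_isIntegral X (genericPoint X) hξ
  have hφ : Function.Injective (algebraMap A Γ(X, ⊤)) := by
    refine (injective_iff_map_eq_zero _).2 fun a ha => ?_
    by_contra ha0
    obtain ⟨x, hx⟩ := f.denseRange.exists_mem_open (PrimeSpectrum.basicOpen a).2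
      ⟨(⟨⊥, Ideal.isPrime_bot⟩ : PrimeSpectrum A), fun h => ha0 (by simpa using h)⟩
    have h1 : f ⁻¹ᵁ (Spec (CommRingCat.of A)).basicOpen ((Scheme.ΓSpecIso (CommRingCat.of A)).inv a) =
        X.basicOpen (algebraMap A Γ(X, ⊤) a) := Scheme.preimage_basicOpen_top f _
    rw [ha, Scheme.basicOpen_zero, basicOpen_eq_of_affine] at h1
    have h2 : x ∈ f ⁻¹ᵁ PrimeSpectrum.basicOpen a := hx
    have : x ∈ (⊥ : X.Opens) := h1 ▸ h2
    exact this
  letI : Algebra A X.functionField := (γ.comp (algebraMap A Γ(X, ⊤))).toAlgebra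
  have hinj : Function.Injective (algebraMap A X.functionField) := hγ.comp hφ
  haveI : FaithfulSMul A X.functionField := (faithfulSMul_iff_algebraMap_injective _ _).2 hinj
  let j : FractionRing A →ₐ[A] X.functionField :=
    IsFractionRing.liftAlgHom (g := Algebra.ofId A X.functionField) hinj
  have hψ : ∀ c : C, ∃ t, γ t = j c := fun c => by
    obtain ⟨t, ht⟩ := Groth.L19.NormalSec.exists_section_of_isIntegral hN ⊤ hξ (algebraMap A Γ(X, ⊤))
      (j c) ((show IsIntegral A (c : FractionRing A) from c.2).map j)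
    exact ⟨t, ht⟩
  choose t ht using hψ
  let ψ : C →+* Γ(X, ⊤) :=
    { toFun := t
      map_one' := hγ (by rw [ht, map_one]; exact map_one j)
      map_mul' := fun c d => hγ (by rw [ht, map_mul γ, ht, ht]; exact map_mul j (c : FractionRing A) d)
      map_zero' := hγ (by rw [ht, map_zero]; exact map_zero j)
      map_add' := fun c d => hγ (by rw [ht, map_add γ, ht, ht]; exact map_add j (c : FractionRing A) d) }
  letI : Algebra C Γ(X, ⊤) := ψ.toAlgebra
  haveI : IsScalarTower A C Γ(X, ⊤) := IsScalarTower.of_algebraMap_eq fun a => hγ ((j.commutes a).symm.trans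
    (ht (algebraMap A C a)).symm)
  have hψi : Function.Injective (algebraMap C Γ(X, ⊤)) := fun c d h =>
    Subtype.ext (j.toRingHom.injective ((ht c).symm.trans ((congrArg γ h).trans (ht d))))
  have hC : EGA4.IsNormalRing C := by
    haveI : IsFractionRing C (FractionRing A) := integralClosure.isFractionRing_of_finite_extension (FractionRing A) (FractionRing A)
    haveI : IsIntegrallyClosed C := integralClosure.isIntegrallyClosedOfFiniteExtension (FractionRing A)
    exact fun P _ => ⟨inferInstance,
      isIntegrallyClosed_of_isLocalization (Localization.AtPrime P) P.primeCompl P.primeCompl_le_nonZeroDivisors⟩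
  obtain ⟨e⟩ := Groth.L07.CplNormalDescent.nonempty_equiv A Γ(X, ⊤)
  exact Groth.L07.CplNormalDescent.normal_completion A C Γ(X, ⊤) hψi hC
    (Groth.L06.NormalAscent.isNormalRing_of_ringEquiv e (isNormalRing_tensor_global A f hreg))

/-- A normal local ring with a regular alteration has a normal completion. -/
theorem normal_cpl_of_alteration [IsDomain A] [IsIntegrallyClosed A] {X : Scheme.{u}} [IsIntegral X]
    (f : X ⟶ Spec (CommRingCat.of A)) [IsProper f] [IsDominant f]
    (hreg : ∀ x : X, IsRegularLocalRing (X.presheaf.stalk x)) :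
    IsDomain (Curv2.cpl A) ∧ IsIntegrallyClosed (Curv2.cpl A) := by
  have h := normal_completion_integralClosure A f hreg
  let C := integralClosure A (FractionRing A)
  have hAC : Function.Bijective (algebraMap A C) := by
    refine ⟨fun a b h => IsFractionRing.injective A (FractionRing A) (congrArg Subtype.val h), fun c => ?_⟩
    obtain ⟨a, ha⟩ := IsIntegrallyClosed.isIntegral_iff.1 (show IsIntegral A (c : FractionRing A) from c.2)
    exact ⟨a, Subtype.ext ha⟩
  haveI : Module.Finite A C := Module.Finite.of_surjective (Algebra.linearMap A C) hAC.2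
  obtain ⟨e⟩ := Groth.L07.CplNormalDescent.nonempty_equiv A C
  let eAC : A ≃ₐ[A] C := AlgEquiv.ofBijective (Algebra.ofId A C) hAC
  let e1 : ((AdicCompletion (maximalIdeal A) A) ⊗[A] C) ≃+* Curv2.cpl A :=
    ((Algebra.TensorProduct.congr (S := A) AlgEquiv.refl eAC.symm).trans
      ((Algebra.TensorProduct.rid A A (AdicCompletion (maximalIdeal A) A)).restrictScalars A)).toRingEquiv
  have hn : EGA4.IsNormalRing (Curv2.cpl A) :=
    Groth.L06.NormalAscent.isNormalRing_of_ringEquiv (e.symm.trans e1) h
  haveI : IsLocalRing (Curv2.cpl A) := AdicCompletion.isLocalRing_of_fg (Ideal.fg_of_isNoetherianRing _)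
  haveI := (hn (maximalIdeal (Curv2.cpl A))).1
  haveI := (hn (maximalIdeal (Curv2.cpl A))).2
  let el : Curv2.cpl A ≃ₐ[Curv2.cpl A] Localization.AtPrime (maximalIdeal (Curv2.cpl A)) :=
    IsLocalization.atUnits _ (maximalIdeal (Curv2.cpl A)).primeCompl fun x hx => by
      simpa [IsLocalRing.notMem_maximalIdeal, IsUnit.mem_submonoid_iff] using hx
  exact ⟨el.toRingEquiv.toMulEquiv.isDomain, IsIntegrallyClosed.of_equiv el.symm.toRingEquiv⟩

end Groth.L05.PtChain
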