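import Groth.Agent.L05.PtChain.Geo.ResolvePts
import Groth.Agent.L05.PtChain.Geo.AltNormal
import Groth.Agent.L05.NormChar.Main
import Groth.Agent.L04.HyperSurf.Main
import Groth.Agent.L19.IntegralHom
import Groth.Agent.L22.BM.NormIso
import Groth.Agent.L16.Blow.Integral
import Groth.Agent.S7321
import Groth.Agent.S0386
import Groth.Agent.S0565
import Groth.Agent.S9690
import Groth.Agent.L06.BlowProj
import Groth.Agent.L13.Nagata.Chow
import Groth.Agent.L18.FiniteProjective
import Mathlib.AlgebraicGeometry.Morphisms.UniversallyOpen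

/-! Surfaces with a regular alteration. -/

set_option autoImplicit false
set_option maxSynthPendingDepth 5
set_option linter.style.haveILetI false
set_option backward.isDefEq.respectTransparency false
set_option backward.isDefEq.respectTransparency.types false
set_option maxHeartbeats 800000

universe u

open CategoryTheory CategoryTheory.Limits AlgebraicGeometry TopologicalSpace IsLocalRing

noncomputable section

namespace Groth.L05.PtChain

variable {Y : Scheme.{u}} [IsIntegral Y] [AlgebraicGeometry.IsNoetherian Y]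
  {X : Scheme.{u}} [IsIntegral X] (g : X ⟶ Y) [IsProper g] [IsDominant g]

omit [AlgebraicGeometry.IsNoetherian Y] in
theorem alteration_surjective : Function.Surjective g := by
  intro y
  have h := g.denseRange.closure_range
  rw [g.isClosedMap.isClosed_range.closure_eq] at h
  exact Set.eq_univ_iff_forall.1 h y

omit [AlgebraicGeometry.IsNoetherian Y] [IsProper g] in
theorem alteration_genericPoint : g (genericPoint X) = genericPoint Y := by
  have h := (genericPoint_spec X).image g.continuous
  rw [Set.image_univ, g.denseRange.closure_range] at h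
  exact h.eq (genericPoint_spec Y)

/-- A regular alteration is flat over points of codimension at most one. -/
theorem exists_flat_over (hn : Pi1.IsNormalScheme Y) {y : Y} (hy : ringKrullDim (Y.presheaf.stalk y) ≤ 1) :
    ∃ x, g x = y ∧ (g.stalkMap x).hom.Flat := by
  obtain ⟨x, rfl⟩ := alteration_surjective g y
  refine ⟨x, rfl, ?_⟩
  haveI := (hn (g x)).1
  haveI := (hn (g x)).2
  haveI : IsRegularLocalRing (Y.presheaf.stalk (g x)) := Groth.L06.NormalAscent.regular_of_normal_dim_le_one hy
  haveI := Groth.L04.HyperSurf.isPrincipalIdealRing_of_dim_le_one (Y.presheaf.stalk (g x)) hy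
  letI := (g.stalkMap x).hom.toAlgebra
  have hinj : Function.Injective (g.stalkMap x).hom :=
    Groth.L05.PtSeq.stalkMap_injective g (alteration_genericPoint g) x
  show Module.Flat (Y.presheaf.stalk (g x)) (X.presheaf.stalk x)
  haveI : Module.IsTorsionFree (Y.presheaf.stalk (g x)) (X.presheaf.stalk x) :=
    Module.isTorsionFree_iff_algebraMap_injective.2 hinj
  infer_instance

include g in
/-- Under a regular alteration the singular points of a normal surface are finitely many closed points
of dimension two with normal completions. -/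
theorem sing_of_alteration (hn : Pi1.IsNormalScheme Y) (hd : topologicalKrullDim Y ≤ 2)
    (hreg : ∀ x : X, IsRegularLocalRing (X.presheaf.stalk x)) :
    {y : Y | Sing Y y}.Finite ∧ ∀ y : Y, Sing Y y → ringKrullDim (Y.presheaf.stalk y) = 2 ∧
      IsClosed ({y} : Set Y) ∧ IsDomain (Curv2.cpl (Y.presheaf.stalk y)) ∧
      IsIntegrallyClosed (Curv2.cpl (Y.presheaf.stalk y)) := by
  haveI : LocallyOfFinitePresentation g := LocallyOfFinitePresentation.iff_locallyOfFiniteType.2 inferInstance
  let F : X.Opens := ⟨{x | (g.stalkMap x).hom.Flat}, Groth.Agent.S0386.result g⟩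
  haveI : Flat (F.ι ≫ g) := by
    rw [Flat.iff_flat_stalkMap]
    intro x
    rw [Scheme.Hom.stalkMap_comp]
    exact RingHom.Flat.comp x.2 (RingHom.Flat.of_bijective (ConcreteCategory.bijective_of_isIso (F.ι.stalkMap x)))
  have hop : IsOpen (g '' (F : Set X)) := by
    have h1 := (F.ι ≫ g).isOpenMap.isOpen_range
    rwa [show Set.range (F.ι ≫ g) = g '' (F : Set X) by
      simp [Scheme.Hom.comp_base, Set.range_comp, Scheme.Opens.range_ι]] at h1
  have hnotF : ∀ y : Y, Sing Y y → y ∉ g '' (F : Set X) := by
    rintro y hy ⟨x, hx, rfl⟩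
    letI := (g.stalkMap x).hom.toAlgebra
    haveI : IsLocalHom (algebraMap (Y.presheaf.stalk (g x)) (X.presheaf.stalk x)) :=
      inferInstanceAs (IsLocalHom (g.stalkMap x).hom)
    haveI : Module.Flat (Y.presheaf.stalk (g x)) (X.presheaf.stalk x) := hx
    haveI := hreg x
    exact hy (Groth.Agent.S0565.result _ (X.presheaf.stalk x))
  have hcl : ∀ y : Y, y ∉ g '' (F : Set X) → ringKrullDim (Y.presheaf.stalk y) = 2 ∧ IsClosed ({y} : Set Y) := by
    intro y hy
    have h2 : 2 ≤ ringKrullDim (Y.presheaf.stalk y) := by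
      by_contra hlt
      obtain ⟨x, hx, hxf⟩ := exists_flat_over g hn (dim_le_one_of_lt_two hlt)
      exact hy ⟨x, hxf, hx⟩
    exact ⟨le_antisymm ((Groth.L13.ModFibre.ringKrullDim_stalk_le_topologicalKrullDim _).trans hd) h2,
      closure_subset_iff_isClosed.1 fun d hd' =>
        Groth.L05.RelMinExists.eq_of_dim_two_le hd h2 (specializes_iff_mem_closure.2 hd')⟩
  refine ⟨(Groth.L18.Curve.finite_of_forall_isClosed hop.isClosed_compl fun y hy => (hcl y hy).2).subset
    fun y hy => hnotF y hy, fun y hy => ⟨(hcl y (hnotF y hy)).1, (hcl y (hnotF y hy)).2, ?_⟩⟩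
  haveI := (hn y).1
  haveI := (hn y).2
  haveI : IsNoetherianRing (Y.presheaf.stalk y) := Groth.L14.RegImmStalk.isNoetherianRing_stalk' (X := Y) y
  let A := Y.presheaf.stalk y
  have hsq : IsPullback (pullback.fst g (Y.fromSpecStalk y)) (pullback.snd g (Y.fromSpecStalk y)) g
      (Y.fromSpecStalk y) := IsPullback.of_hasPullback _ _
  let p := pullback.fst g (Y.fromSpecStalk y)
  let q : (pullback g (Y.fromSpecStalk y) : Scheme.{u}) ⟶ Spec (CommRingCat.of A) := pullback.snd g (Y.fromSpecStalk y)
  haveI : IsPreimmersion p := MorphismProperty.of_isPullback hsq.flip inferInstance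
  have hst := fun z => Groth.Agent.S4366.result g y z
  have hregP : ∀ z, IsRegularLocalRing ((pullback g (Y.fromSpecStalk y)).presheaf.stalk z) := fun z => by
    haveI := hst z
    haveI := hreg (p z)
    exact IsRegularLocalRing.of_ringEquiv (asIso (p.stalkMap z)).commRingCatIsoToRingEquiv
  obtain ⟨z₀, hz₀, hz₀'⟩ := Scheme.exists_preimage_of_isPullback hsq (genericPoint X) (genericPoint (Spec (Y.presheaf.stalk y)))
    ((alteration_genericPoint g).trans (Groth.L05.RatSpread.fromSpecStalk_genericPoint y).symm)
  have hgen : ∀ z, z₀ ⤳ z := fun z => by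
    rw [← p.isEmbedding.isInducing.specializes_iff, hz₀]
    exact (genericPoint_spec X).specializes trivial
  haveI : IrreducibleSpace ↥(pullback g (Y.fromSpecStalk y)) :=
    { isPreirreducible_univ := by
        rw [show (Set.univ : Set ↥(pullback g (Y.fromSpecStalk y))) = closure {z₀} from
          (Set.eq_univ_of_forall fun z => specializes_iff_mem_closure.1 (hgen z)).symm]
        exact isPreirreducible_singleton.closure
      toNonempty := ⟨z₀⟩ }
  haveI : AlgebraicGeometry.IsReduced (pullback g (Y.fromSpecStalk y)) := by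
    haveI : ∀ z, _root_.IsReduced ((pullback g (Y.fromSpecStalk y)).presheaf.stalk z) := fun z => by
      haveI := hregP z
      haveI := Groth.L01.isDomain_of_regular ((pullback g (Y.fromSpecStalk y)).presheaf.stalk z)
      infer_instance
    exact isReduced_of_isReduced_stalk _
  haveI : IsIntegral (pullback g (Y.fromSpecStalk y)) := isIntegral_of_irreducibleSpace_of_isReduced _
  haveI : IsProper q := MorphismProperty.of_isPullback hsq inferInstance
  haveI : IsDominant q := ⟨by
    refine dense_iff_closure_eq.2 (Set.eq_univ_of_univ_subset ?_)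
    rw [← (genericPoint_spec (Spec (Y.presheaf.stalk y))).def]
    exact closure_mono (Set.singleton_subset_iff.2 ⟨z₀, hz₀'⟩)⟩
  exact normal_cpl_of_alteration (A := A) q hregP

end Groth.L05.PtChain

namespace Groth.L05.PtChain

variable (Y : Scheme.{u}) [IsIntegral Y] [AlgebraicGeometry.IsNoetherian Y]
  [QuasiCompact (Y.fromSpecStalk (genericPoint Y))] [QuasiSeparated (Y.fromSpecStalk (genericPoint Y))]

/-- A finite normalisation with finitely many analytically normal singular points gives a projective
resolution. -/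
theorem projective_resolution_of_normalization (hd : topologicalKrullDim Y ≤ 2) [IsFinite (Curv2.normalizationι Y)]
    (hs : {y : ↥(Curv2.normalization Y) | ¬ IsRegularLocalRing ((Curv2.normalization Y).presheaf.stalk y)}.Finite)
    (hc : ∀ y : ↥(Curv2.normalization Y), ¬ IsRegularLocalRing ((Curv2.normalization Y).presheaf.stalk y) →
      IsDomain (Curv2.cpl ((Curv2.normalization Y).presheaf.stalk y)) ∧
      IsIntegrallyClosed (Curv2.cpl ((Curv2.normalization Y).presheaf.stalk y))) :
    ∃ (X : Scheme.{u}) (g : X ⟶ Y), RelProj.IsProjective g ∧ IsProper g ∧ IsIntegral X ∧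
      (∃ V : Y.Opens, (V : Set Y).Nonempty ∧ IsIso (g ∣_ V)) ∧ ∀ x : X, IsRegularLocalRing (X.presheaf.stalk x) := by
  obtain ⟨hint, hn, -⟩ := Groth.Agent.S2351.result Y
  haveI := hint
  let ν := Curv2.normalizationι Y
  haveI : IsIntegralHom ν := inferInstance
  haveI : IsLocallyNoetherian (Curv2.normalization Y) := LocallyOfFiniteType.isLocallyNoetherian ν
  haveI : CompactSpace (Curv2.normalization Y) := QuasiCompact.compactSpace_of_compactSpace ν
  haveI : AlgebraicGeometry.IsNoetherian (Curv2.normalization Y) := {}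
  let T : Set ↥(Curv2.normalization Y) :=
    {y | ¬ IsRegularLocalRing ((Curv2.normalization Y).presheaf.stalk y)}
  have hd' : topologicalKrullDim (Curv2.normalization Y) ≤ 2 :=
    (Groth.L19.topologicalKrullDim_le_of_isIntegralHom ν).trans hd
  have hT : ∀ y ∈ T, ringKrullDim ((Curv2.normalization Y).presheaf.stalk y) = 2 ∧
      IsClosed ({y} : Set ↥(Curv2.normalization Y)) := by
    intro y hy
    haveI := (hn y).1
    haveI := (hn y).2
    haveI : IsNoetherianRing ((Curv2.normalization Y).presheaf.stalk y) :=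
      Groth.L14.RegImmStalk.isNoetherianRing_stalk' (X := Curv2.normalization Y) y
    have h2 : 2 ≤ ringKrullDim ((Curv2.normalization Y).presheaf.stalk y) := by
      by_contra hlt
      exact hy (Groth.L06.NormalAscent.regular_of_normal_dim_le_one (dim_le_one_of_lt_two hlt))
    exact ⟨le_antisymm ((Groth.L13.ModFibre.ringKrullDim_stalk_le_topologicalKrullDim _).trans hd') h2,
      closure_subset_iff_isClosed.1 fun d hd'' =>
        Groth.L05.RelMinExists.eq_of_dim_two_le hd' h2 (specializes_iff_mem_closure.2 hd'')⟩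
  have hTc : IsClosed T := by
    rw [← Set.biUnion_of_singleton T]
    exact hs.isClosed_biUnion fun y hy => (hT y hy).2
  obtain ⟨𝓘, hsupp, hres⟩ := exists_resolve_points T hs (fun t ht => (hT t ht).1) fun t ht => hc t ht
  obtain ⟨X, b, hb⟩ := Groth.L13.BU.exists_isBlowUp 𝓘
  have hsupp' : (𝓘.support : Set ↥(Curv2.normalization Y)) ⊆ T := hsupp.trans hTc.closure_subset
  have hη : genericPoint ↥(Curv2.normalization Y) ∉ T := fun h => by
    have h1 := (hT _ h).1
    rw [Groth.L05.PtSeq.dim_stalk_genericPoint] at h1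
    exact absurd h1 (by decide)
  have hne : 𝓘 ≠ ⊥ := fun h0 => hη (hsupp' (by rw [h0]; simp))
  obtain ⟨hX, -, -⟩ := Groth.L16.Blow.isIntegral_and_birational hb hne
  haveI : IsProper b := Groth.L13.BU.isProper_blowUp hb (isFiniteType_of_noetherian _)
  obtain ⟨W, hW, hWi⟩ := Groth.L22.BM.exists_isIso_normalizationι Y
  let V : Y.Opens := W ⊓ ⟨(ν '' T)ᶜ, (ν.isClosedMap _ hTc).isOpen_compl⟩
  have hηW : genericPoint Y ∈ V := by
    refine ⟨Groth.L22.Norm.genericPoint_mem Y hW, ?_⟩
    rintro ⟨y, hy, hy'⟩
    exact hη ((Groth.L05.NormChar.eq_genericPoint_of_isIntegralHom ν hy') ▸ hy)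
  haveI := hWi
  haveI : IsIso (ν ∣_ V) := Groth.L13.Contraction.isIso_restrict_mono ν (C := W) fun z hz => hz.1
  haveI : IsIso (b ∣_ (ν ⁻¹ᵁ V)) := isIso_restrict_of_disjoint hb _
    (Set.disjoint_left.2 fun z hz hzV => hzV.2 ⟨z, hsupp' hz, rfl⟩)
  refine ⟨X, b ≫ ν, Groth.L13.Nagata.isProjective_comp b ν
    (Groth.L06.BlowProj.isProjective_of_isBlowUp 𝓘 (isFiniteType_of_noetherian _) b hb)
    (Groth.L18.FinProj.isProjective_of_isFinite ν), inferInstance, hX, ⟨V, ⟨_, hηW⟩, ?_⟩, fun x => ?_⟩
  · rw [morphismRestrict_comp]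
    infer_instance
  · by_cases hx : b x ∈ T
    · exact hres X b hb x hx
    · let U : (Curv2.normalization Y).Opens := ⟨Tᶜ, hTc.isOpen_compl⟩
      haveI := isIso_restrict_of_disjoint hb U (Set.disjoint_left.2 fun z hz hzU => hzU (hsupp' hz))
      haveI : IsIso (b.stalkMap x) :=
        ((MorphismProperty.isomorphisms CommRingCat).arrow_mk_iso_iff (morphismRestrictStalkMap b U ⟨x, hx⟩)).1
          inferInstance
      haveI : IsRegularLocalRing ((Curv2.normalization Y).presheaf.stalk (b x)) := not_not.1 hx
      exact IsRegularLocalRing.of_ringEquiv (asIso (b.stalkMap x)).commRingCatIsoToRingEquiv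

/-- A finite normalisation with finitely many analytically normal singular points gives a resolution. -/
theorem resolution_of_normalization (hd : topologicalKrullDim Y ≤ 2) [IsFinite (Curv2.normalizationι Y)]
    (hs : {y : ↥(Curv2.normalization Y) | ¬ IsRegularLocalRing ((Curv2.normalization Y).presheaf.stalk y)}.Finite)
    (hc : ∀ y : ↥(Curv2.normalization Y), ¬ IsRegularLocalRing ((Curv2.normalization Y).presheaf.stalk y) →
      IsDomain (Curv2.cpl ((Curv2.normalization Y).presheaf.stalk y)) ∧
      IsIntegrallyClosed (Curv2.cpl ((Curv2.normalization Y).presheaf.stalk y))) :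
    ∃ (X : Scheme.{u}) (g : X ⟶ Y), IsProper g ∧ IsIntegral X ∧
      (∃ V : Y.Opens, (V : Set Y).Nonempty ∧ IsIso (g ∣_ V)) ∧ ∀ x : X, IsRegularLocalRing (X.presheaf.stalk x) := by
  obtain ⟨X, g, -, h⟩ := projective_resolution_of_normalization Y hd hs hc
  exact ⟨X, g, h⟩

/-- The consequences of a regular alteration of a surface. -/
theorem normalization_of_alteration (hd : topologicalKrullDim Y ≤ 2) {X : Scheme.{u}} (g : X ⟶ Y)
    (hg : Curv2.IsAlteration g) (hreg : ∀ x : X, IsRegularLocalRing (X.presheaf.stalk x)) :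
    IsFinite (Curv2.normalizationι Y) ∧
      {y : ↥(Curv2.normalization Y) | ¬ IsRegularLocalRing ((Curv2.normalization Y).presheaf.stalk y)}.Finite ∧
      ∀ y : ↥(Curv2.normalization Y), ¬ IsRegularLocalRing ((Curv2.normalization Y).presheaf.stalk y) →
        IsDomain (Curv2.cpl ((Curv2.normalization Y).presheaf.stalk y)) ∧
        IsIntegrallyClosed (Curv2.cpl ((Curv2.normalization Y).presheaf.stalk y)) := by
  obtain ⟨hgp, hX, -, hdom, -⟩ := hg
  haveI := hgp; haveI := hX; haveI := hdom
  have hfin := Groth.Agent.S7321.isFinite_normalizationι_of_alteration Y g hreg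
  haveI := hfin
  obtain ⟨hint, hn, -⟩ := Groth.Agent.S2351.result Y
  haveI := hint
  let ν := Curv2.normalizationι Y
  haveI : IsLocallyNoetherian (Curv2.normalization Y) := LocallyOfFiniteType.isLocallyNoetherian ν
  haveI : CompactSpace (Curv2.normalization Y) := QuasiCompact.compactSpace_of_compactSpace ν
  haveI : AlgebraicGeometry.IsNoetherian (Curv2.normalization Y) := {}
  have hXn : Pi1.IsNormalScheme X := fun x => by
    haveI := hreg x
    exact ⟨Groth.L01.isDomain_of_regular _, Groth.L03.RegularNormal.isIntegrallyClosed _⟩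
  obtain ⟨l, hl, -⟩ := Groth.Agent.S9690.result Y g hXn fun z hz => by
    rw [irreducibleComponents_eq_singleton, Set.mem_singleton_iff] at hz
    have hzgen : z = genericPoint X := (show IsGenericPoint z Set.univ from hz).eq (genericPoint_spec X)
    rw [hzgen]
    exact alteration_genericPoint g
  haveI : IsProper (l ≫ ν) := by rw [show l ≫ ν = g from hl]; exact hgp
  haveI : IsProper l := IsProper.of_comp l ν
  have hgen : l (genericPoint X) = genericPoint ↥(Curv2.normalization Y) :=
    Groth.L05.NormChar.eq_genericPoint_of_isIntegralHom ν (by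
      rw [← Scheme.Hom.comp_apply, show l ≫ ν = g from hl]; exact alteration_genericPoint g)
  haveI : IsDominant l := ⟨by
    refine dense_iff_closure_eq.2 (Set.eq_univ_of_univ_subset ?_)
    rw [← (genericPoint_spec (Curv2.normalization Y)).def]
    exact closure_mono (Set.singleton_subset_iff.2 ⟨_, hgen⟩)⟩
  obtain ⟨h1, h2⟩ := sing_of_alteration l hn
    ((Groth.L19.topologicalKrullDim_le_of_isIntegralHom ν).trans hd) hreg
  exact ⟨hfin, h1, fun y hy => (h2 y hy).2.2⟩

/-- A resolution is an alteration. -/
theorem isAlteration_of_resolution {X : Scheme.{u}} (g : X ⟶ Y) [IsProper g] [IsIntegral X] {V : Y.Opens}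
    (hV : (V : Set Y).Nonempty) [IsIso (g ∣_ V)] : Curv2.IsAlteration g := by
  refine ⟨inferInstance, inferInstance, inferInstance, ⟨?_⟩, V, hV, inferInstance⟩
  refine (V.2.dense hV).mono fun v hv => ?_
  obtain ⟨w, hw⟩ := (g ∣_ V).homeomorph.surjective ⟨v, hv⟩
  exact ⟨w.1, by rw [← morphismRestrict_base_coe g V w]; exact congrArg Subtype.val hw⟩

end Groth.L05.PtChain
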