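import Groth.Agent.L05.PtChain.Geo.Modif
import Groth.Agent.L05.RatPow.Completion
import Groth.Agent.L05.RatPow.Normal
import Groth.Agent.L16.Blow.Integral
import Groth.Agent.L11.REq.FibreExtend
import Groth.Agent.L20.SeeNormal.Local
import Groth.Agent.L13.BlowUp.Exists

/-! Blowing up a singular point of a modification. -/

set_option autoImplicit false
set_option maxSynthPendingDepth 5
set_option linter.style.haveILetI false
set_option backward.isDefEq.respectTransparency false
set_option backward.isDefEq.respectTransparency.types false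
set_option maxHeartbeats 800000

universe u

open CategoryTheory CategoryTheory.Limits AlgebraicGeometry TopologicalSpace

noncomputable section

namespace Groth.L05.PtChain

open Groth.L03.BlowPt (ptI)

/-- The stalk ideal of a closed point. -/
theorem ptI_comap_fromSpecStalk {X : Scheme.{u}} {x : X} (hx : IsClosed ({x} : Set X)) :
    (ptI hx).comap (X.fromSpecStalk x) =
      Groth.L13.BU.idealOf (IsLocalRing.maximalIdeal (X.presheaf.stalk x)) := by
  refine Scheme.IdealSheafData.ext_of_isAffine ?_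
  obtain ⟨W, hW, hxW, -⟩ := exists_isAffineOpen_mem_and_subset (x := x) (U := (⊤ : X.Opens)) trivial
  rw [Groth.L20.SeeNormal.ideal_top_comap_fromSpecStalk, Groth.L13.BU.idealOf_top,
    Groth.L20.SeeNormal.sI_eq _ ⟨W, hW⟩ hxW, Groth.L03.BlowPt.ideal_ptI hx ⟨W, hW⟩ hxW]
  congr 1
  letI := X.presheaf.algebra_section_stalk ⟨x, hxW⟩
  haveI := hW.isLocalization_stalk ⟨x, hxW⟩
  exact IsLocalization.AtPrime.map_eq_maximalIdeal (hW.primeIdealOf ⟨x, hxW⟩).asIdeal (X.presheaf.stalk x)

variable {A : Type u} [CommRing A] [IsNoetherianRing A] [IsDomain A] [IsLocalRing A]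

theorem exists_blow (hA : EGA4.IsExcellent A) (hdim : ringKrullDim A = 2) {X : Scheme.{u}}
    {f : X ⟶ Spec (CommRingCat.of A)} (h : RMod f) {x : X} (hx : Sing X x) :
    ∃ (X₁ : Scheme.{u}) (b : X₁ ⟶ X), RMod (b ≫ f) ∧ IsProper b ∧
      IsIso (b ∣_ (⟨{x}ᶜ, (h.sing_closed hdim hx).isOpen_compl⟩ : X.Opens)) ∧
      ∀ x₁, b x₁ = x → Sing X₁ x₁ → ∃ φ : X.presheaf.stalk x →+* X₁.presheaf.stalk x₁, IsPtStep φ := by
  haveI := h.noetherian
  haveI := h.integral
  haveI := h.proper
  have hcl := h.sing_closed hdim hx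
  have hne := h.sing_ne_generic hdim hx
  obtain ⟨X₁, b, hb⟩ := Groth.L13.BU.exists_isBlowUp (ptI hcl)
  obtain ⟨hi₁, he, -⟩ := Groth.L16.Blow.isIntegral_and_birational hb (Groth.L05.PtSeq.ptI_ne_bot hcl hne)
  haveI := hi₁
  haveI : IsProper b := Groth.L13.BU.isProper_blowUp hb fun U =>
    haveI : IsNoetherianRing Γ(X, U.1) := IsLocallyNoetherian.component_noetherian U
    IsNoetherian.noetherian _
  haveI : IsLocallyNoetherian X₁ := LocallyOfFiniteType.isLocallyNoetherian b
  haveI hoff : IsIso (b ∣_ (⟨{x}ᶜ, hcl.isOpen_compl⟩ : X.Opens)) := by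
    haveI := Groth.L22.Ideals.isIso_restrict_compl hb
    refine Groth.L13.Contraction.isIso_restrict_mono b (C := (ptI hcl).support.compl) ?_
    intro z hz hz'
    exact hz (by simpa [ptI] using (show z ∈ ((ptI hcl).support : Set X) from hz'))
  -- local analysis
  haveI := (h.normal x).1
  haveI := (h.normal x).2
  set T := X.presheaf.stalk x
  let g := X.fromSpecStalk x
  haveI : Flat g := Groth.L05.Point.flat_fromSpecStalk x
  have hb' := Groth.L13.BU.isBlowUp_pullback g hb
  rw [ptI_comap_fromSpecStalk hcl] at hb'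
  let P : Scheme.{u} := pullback g b
  let p₁ : P ⟶ Spec (CommRingCat.of T) := pullback.fst g b
  let p₂ : P ⟶ X₁ := pullback.snd g b
  haveI : Flat p₂ := MorphismProperty.of_isPullback (IsPullback.of_hasPullback g b) inferInstance
  haveI : IsPreimmersion p₂ := MorphismProperty.of_isPullback (IsPullback.of_hasPullback g b) inferInstance
  have hTe := h.excellent_stalk hA x
  have hTd := h.sing_dim hdim hx
  have hTr := h.rat x hx
  have hPn : Pi1.IsNormalScheme P :=
    Groth.L05.RatPow.isNormal_of_rational (isNagata_of_excellent hTe) hTd hTr p₁ hb'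
  have hlift : ∀ x₁, b x₁ = x → ∃ z : P, p₂ z = x₁ ∧ Nonempty (P.presheaf.stalk z ≃+* X₁.presheaf.stalk x₁) := by
    intro x₁ hx₁
    obtain ⟨z, -, hz⟩ := Scheme.exists_preimage_of_isPullback (IsPullback.of_hasPullback g b)
      (IsLocalRing.closedPoint T) x₁ ((Scheme.fromSpecStalk_closedPoint).trans hx₁.symm)
    haveI := Groth.L11.REqHom.isIso_stalkMap_of_flat_preimmersion p₂ z
    subst hz
    exact ⟨z, rfl, ⟨(asIso (p₂.stalkMap z)).commRingCatIsoToRingEquiv.symm⟩⟩
  have hnorm : Pi1.IsNormalScheme X₁ := fun x₁ => by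
    by_cases hx₁ : b x₁ = x
    · obtain ⟨z, -, ⟨e⟩⟩ := hlift x₁ hx₁
      haveI := (hPn z).1
      haveI := (hPn z).2
      exact ⟨e.symm.injective.isDomain e.symm.toRingHom, IsIntegrallyClosed.of_equiv e⟩
    · haveI := Groth.L05.PtSeq.isIso_stalkMap_of_restrict b (⟨{x}ᶜ, hcl.isOpen_compl⟩ : X.Opens) (x := x₁) hx₁
      let e := (asIso (b.stalkMap x₁)).commRingCatIsoToRingEquiv
      haveI := (h.normal (b x₁)).1
      haveI := (h.normal (b x₁)).2
      exact ⟨e.symm.injective.isDomain e.symm.toRingHom, IsIntegrallyClosed.of_equiv e⟩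
  have hbirb : Groth.L05.MinDesing.IsBir b :=
    ⟨(⟨{x}ᶜ, hcl.isOpen_compl⟩ : X.Opens), ⟨genericPoint X, fun e => hne e⟩, hoff⟩
  have hbir : Groth.L05.MinDesing.IsBir (b ≫ f) := Groth.L05.MinDesing.isBir_comp b f hbirb h.bir
  have hdimle : ∀ z : X₁, ringKrullDim (X₁.presheaf.stalk z) ≤ 2 := by
    intro z
    obtain ⟨W, hW, hWi⟩ := hbir
    haveI := hWi
    refine (Groth.L13.ModFibre.ringKrullDim_stalk_le (b ≫ f) W ?_ z).trans
      ((Groth.L13.ModFibre.ringKrullDim_stalk_le_topologicalKrullDim _).trans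
        ((PrimeSpectrum.topologicalKrullDim_eq_ringKrullDim A).trans hdim).le)
    obtain ⟨w, hw⟩ := hW
    obtain ⟨v, -⟩ := ((b ≫ f) ∣_ W).homeomorph.surjective ⟨w, hw⟩
    exact ⟨v.1, v.2⟩
  have hdim2 : ∀ x₁, Sing X₁ x₁ → ringKrullDim (X₁.presheaf.stalk x₁) = 2 := by
    intro x₁ hs
    haveI := (hnorm x₁).1
    haveI := (hnorm x₁).2
    refine le_antisymm (hdimle x₁) ?_
    by_contra hlt
    refine hs (Groth.L06.NormalAscent.regular_of_normal_dim_le_one ?_)
    exact dim_le_one_of_lt_two hlt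
  have hclosed : ∀ x₁, Sing X₁ x₁ → IsClosed ({x₁} : Set X₁) := fun x₁ hx₁ =>
    closure_subset_iff_isClosed.1 fun d hd' => Groth.L05.RelMinExists.eq_of_dim_two_le
      (Groth.L05.PtSeq.dim_le_of_stalks hdimle) (hdim2 x₁ hx₁).ge (specializes_iff_mem_closure.2 hd')
  have hstep : ∀ x₁, b x₁ = x → Sing X₁ x₁ →
      ∃ φ : T →+* X₁.presheaf.stalk x₁, IsPtStep φ := by
    intro x₁ hx₁ hs
    obtain ⟨z, hz, ⟨e⟩⟩ := hlift x₁ hx₁
    have hzc : IsClosed ({z} : Set P) := by
      rw [show ({z} : Set P) = p₂ ⁻¹' {x₁} from Set.ext fun w =>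
        ⟨fun hw => (congrArg p₂ (Set.mem_singleton_iff.1 hw)).trans hz,
          fun hw => p₂.isEmbedding.injective ((Set.mem_singleton_iff.1 hw).trans hz.symm)⟩]
      exact (hclosed x₁ hs).preimage p₂.continuous
    haveI : IsProper p₁ := MorphismProperty.of_isPullback (IsPullback.of_hasPullback g b).flip inferInstance
    obtain ⟨a, ha, hna, q, hq, hqm, ⟨e'⟩⟩ := Groth.L05.RatPow.exists_chart_point (A := T) p₁ hb' z hzc
    exact ⟨(e'.trans e).toRingHom.comp ((algebraMap _ _).comp (Groth.L13.BU.chartHom _ a ha)),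
      a, ha, q.asIdeal, hq, hna, hqm, e'.trans e, fun _ => rfl⟩
  have hN : AlgebraicGeometry.IsNoetherian X₁ := by
    haveI : CompactSpace X₁ := QuasiCompact.compactSpace_of_compactSpace b
    exact {}
  have hrat : ∀ x₁, Sing X₁ x₁ → Curv2.IsRationalSing (X₁.presheaf.stalk x₁) := by
    intro x₁ hs
    haveI := (hnorm x₁).1
    haveI := (hnorm x₁).2
    by_cases hx₁ : b x₁ = x
    · obtain ⟨φ, hφ⟩ := hstep x₁ hx₁ hs
      exact rational_of_step hTe hTd hTr hφ (hdim2 x₁ hs)
    · haveI := Groth.L05.PtSeq.isIso_stalkMap_of_restrict b (⟨{x}ᶜ, hcl.isOpen_compl⟩ : X.Opens) (x := x₁) hx₁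
      let e := (asIso (b.stalkMap x₁)).commRingCatIsoToRingEquiv
      refine Groth.L05.RatSpread.isRationalSing_of_equiv e (h.rat _ fun hr => hs ?_)
      haveI := hr
      exact IsRegularLocalRing.of_ringEquiv e
  exact ⟨X₁, b, ⟨inferInstance, hi₁, hnorm, hbir, hrat⟩, inferInstance, hoff, hstep⟩

end Groth.L05.PtChain
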