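import Groth.Agent.L05.PtChain.Geo.Resolve
import Groth.Agent.L05.SurfRes.SepNorm
import Groth.Agent.L05.RatPow.MaxModif
import Groth.Agent.S0568
import Groth.Agent.S2652

/-! Resolution of complete normal two dimensional local rings. -/

set_option autoImplicit false
set_option maxSynthPendingDepth 5
set_option linter.style.haveILetI false
set_option backward.isDefEq.respectTransparency false
set_option backward.isDefEq.respectTransparency.types false
set_option maxHeartbeats 800000

universe u

open CategoryTheory CategoryTheory.Limits AlgebraicGeometry TopologicalSpace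

noncomputable section

namespace Groth.L05.PtChain

theorem exists_resolution_complete (A : Type u) [CommRing A] [IsDomain A] [IsLocalRing A] [IsNoetherianRing A]
    [IsAdicComplete (IsLocalRing.maximalIdeal A) A] [IsIntegrallyClosed A] (hdim : ringKrullDim A = 2) :
    ∃ (X : Scheme.{u}) (f : X ⟶ Spec (CommRingCat.of A)), RMod f ∧
      ∀ x : X, IsRegularLocalRing (X.presheaf.stalk x) := by
  obtain ⟨X, f, hp, hi, hn, hb, -, hrat⟩ := Groth.L05.RatSpread.exists_modification_rational
    (Groth.Agent.S0568.result A) hdim (Groth.L05.SurfRes.exists_bound_complete A hdim)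
  haveI := hp
  haveI := hi
  haveI : IsLocallyNoetherian X := LocallyOfFiniteType.isLocallyNoetherian f
  have hdimle : ∀ z : X, ringKrullDim (X.presheaf.stalk z) ≤ 2 := by
    intro z
    obtain ⟨W, hW, hWi⟩ := hb
    haveI := hWi
    refine (Groth.L13.ModFibre.ringKrullDim_stalk_le f W ?_ z).trans
      ((Groth.L13.ModFibre.ringKrullDim_stalk_le_topologicalKrullDim _).trans
        ((PrimeSpectrum.topologicalKrullDim_eq_ringKrullDim A).trans hdim).le)
    obtain ⟨w, hw⟩ := hW
    obtain ⟨v, -⟩ := (f ∣_ W).homeomorph.surjective ⟨w, hw⟩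
    exact ⟨v.1, v.2⟩
  have hR : RMod f := ⟨hp, hi, hn, hb, fun x hx => hrat x (closure_subset_iff_isClosed.1 fun d hd' => by
    haveI := (hn x).1
    haveI := (hn x).2
    refine Groth.L05.RelMinExists.eq_of_dim_two_le (Groth.L05.PtSeq.dim_le_of_stalks hdimle) ?_
      (specializes_iff_mem_closure.2 hd')
    by_contra hlt
    exact hx (Groth.L06.NormalAscent.regular_of_normal_dim_le_one (dim_le_one_of_lt_two hlt)))⟩
  obtain ⟨X', h, hR', -, hreg⟩ := exists_regular (Groth.Agent.S2652.result A) hdim hR
  exact ⟨X', h ≫ f, hR', hreg⟩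

end Groth.L05.PtChain
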