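import Groth.Agent.L05.PtChain.Geo.Complete
import Groth.Agent.L06.BlowComp.Main
import Groth.Agent.L13.Nagata.Modification
import Groth.Agent.L13.Nagata.CommonMany
import Groth.Agent.L05.PtSeq.Invertible
import Groth.Agent.L07.BlowLib.DeformStrict
import Groth.Agent.S7304
import Groth.Agent.S1597
import Groth.Agent.S11555

/-! Resolution by an admissible blow-up, descended from the completion. -/

set_option autoImplicit false
set_option maxSynthPendingDepth 5
set_option linter.style.haveILetI false
set_option backward.isDefEq.respectTransparency false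
set_option backward.isDefEq.respectTransparency.types false
set_option maxHeartbeats 800000

universe u

open CategoryTheory CategoryTheory.Limits AlgebraicGeometry TopologicalSpace

noncomputable section

namespace Groth.L05.PtChain

theorem isFiniteType_of_noetherian {X : Scheme.{u}} [IsLocallyNoetherian X] (I : X.IdealSheafData) :
    BlowUp.IsFiniteTypeIdeal I := fun U =>
  haveI : IsNoetherianRing Γ(X, U.1) := IsLocallyNoetherian.component_noetherian U
  IsNoetherian.noetherian _

theorem isClosed_image_singleton {Z X : Scheme.{u}} (r : Z ⟶ X) [IsProper r] {z : Z} (hz : IsClosed ({z} : Set Z)) :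
    IsClosed ({r z} : Set X) := by
  rw [← Set.image_singleton (f := r)]
  exact r.isClosedMap _ hz

/-- A sequence of contractions is the blow-up of an ideal supported at closed points. -/
theorem blowUp_of_contractionSeq {Y X : Scheme.{u}} {g : Y ⟶ X} (hg : Models.IsContractionSeq g) :
    AlgebraicGeometry.IsNoetherian X → (∀ x : X, IsRegularLocalRing (X.presheaf.stalk x)) →
      (∀ y : Y, IsRegularLocalRing (Y.presheaf.stalk y)) ∧ ∃ K : X.IdealSheafData, BlowUp.IsBlowUp g K ∧
      ∀ z ∈ (K.support : Set X), IsClosed ({z} : Set X) := by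
  induction hg with
  | iso e =>
    intro _ hreg
    refine ⟨fun y => ?_, ⊤, ?_, fun z hz => by simp at hz⟩
    · haveI := hreg (e.hom y)
      exact IsRegularLocalRing.of_ringEquiv (asIso (e.hom.stalkMap y)).commRingCatIsoToRingEquiv
    have h1 := Groth.L13.Nagata.isBlowUp_congr_iso (Groth.L13.Nagata.isBlowUp_id_top) e
    rwa [Category.comp_id] at h1
  | @step Y Z X E ι b r hι hE hb hr ih =>
    intro hX hreg
    haveI := hX
    obtain ⟨hZ, hbp, y, hy, -, hyr, hyd, hbl⟩ := hb
    haveI := hZ
    obtain ⟨hregZ, K, hK, hKs⟩ := ih hX hreg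
    have hpt : Groth.L05.PtSeq.IsPtBlow b y hy := ⟨hyr, hyd, hbl⟩
    refine ⟨fun w => ?_, ?_⟩
    · by_cases hwy : b w = y
      · exact hpt.regular hwy
      · haveI := hpt.isIso_stalkMap hwy
        haveI := hregZ (b w)
        exact IsRegularLocalRing.of_ringEquiv (asIso (b.stalkMap w)).commRingCatIsoToRingEquiv
    haveI : IsProper r := Groth.L13.BU.isProper_blowUp hK (isFiniteType_of_noetherian _)
    obtain ⟨K', -, hsupp, hK'⟩ := Groth.L06.BlowComp.exists_isBlowUp_comp hK (isFiniteType_of_noetherian _)
      (isFiniteType_of_noetherian _) hbl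
    refine ⟨K', hK', fun z hz => ?_⟩
    rw [hsupp] at hz
    rcases hz with hz | ⟨w, hw, rfl⟩
    · exact hKs z hz
    · have hwy : w = y := by simpa using hw
      subst hwy
      exact isClosed_image_singleton r hy

section

variable (A : Type u) [CommRing A] [IsDomain A] [IsLocalRing A] [IsNoetherianRing A] [IsIntegrallyClosed A]

/-- A normal modification is an isomorphism over the punctured spectrum. -/
theorem isIso_punctured (hdim : ringKrullDim A = 2) {X : Scheme.{u}} {f : X ⟶ Spec (CommRingCat.of A)}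
    (hf : RMod f) : IsIso (f ∣_ FEt.puncturedSpec A) := by
  haveI := hf.proper
  haveI := hf.integral
  obtain ⟨W, hW, hWi⟩ := id hf.bir
  obtain ⟨e, he⟩ := Groth.L05.PtSeq.birational_data f ⟨W, hW, hWi⟩
  haveI := he
  obtain ⟨V, hV, -, hd⟩ := Groth.Agent.S11555.result f
    (Groth.L05.NeronFinite.isNormalScheme_spec fun P _ => ⟨inferInstance,
      isIntegrallyClosed_of_isLocalization _ P.primeCompl P.primeCompl_le_nonZeroDivisors⟩)
    e (ConcreteCategory.bijective_of_isIso (f.stalkMap (genericPoint X)))
  haveI := hV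
  refine Groth.L13.Contraction.isIso_restrict_mono f (C := V) fun y hy => ?_
  by_contra hyV
  have hdim2 : topologicalKrullDim (Spec (CommRingCat.of A)) ≤ 2 :=
    ((PrimeSpectrum.topologicalKrullDim_eq_ringKrullDim A).trans hdim).le
  have hsp : y ⤳ IsLocalRing.closedPoint A := IsLocalRing.specializes_closedPoint y
  exact hy (Groth.L05.RelMinExists.eq_of_dim_two_le hdim2 (hd y hyV) hsp).symm

/-- A complete normal surface singularity has a regular admissible blow-up. -/
theorem exists_admissible_complete [IsAdicComplete (IsLocalRing.maximalIdeal A) A] (hdim : ringKrullDim A = 2) :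
    ∃ (J : (Spec (CommRingCat.of A)).IdealSheafData) (Y : Scheme.{u}) (c : Y ⟶ Spec (CommRingCat.of A)),
      BlowUp.IsAdmissibleFor (FEt.puncturedSpec A) J ∧ BlowUp.IsBlowUp c J ∧
      ∀ y : Y, IsRegularLocalRing (Y.presheaf.stalk y) := by
  obtain ⟨X, f, hf, hreg⟩ := exists_resolution_complete A hdim
  haveI := hf.proper
  haveI := hf.integral
  haveI := hf.noetherian
  haveI := isIso_punctured A hdim hf
  obtain ⟨J, X', T', b, c, h, hb, hc, hJ, hJs, hiso, hh⟩ := Groth.L13.Nagata.exists_isIso_blowUps f
    (FEt.puncturedSpec A) (TopologicalSpace.NoetherianSpace.isCompact _)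
  obtain ⟨W, hW, hWi⟩ := id hf.bir
  obtain ⟨e, -⟩ := Groth.L05.PtSeq.birational_data f ⟨W, hW, hWi⟩
  have hgen : genericPoint (Spec (CommRingCat.of A)) ∈ (FEt.puncturedSpec A : Set (Spec (CommRingCat.of A))) := by
    intro hh'
    have h1 : ringKrullDim A = 0 := by
      have hu : ∀ y : Spec (CommRingCat.of A), y = IsLocalRing.closedPoint A := fun y =>
        ((genericPoint_specializes y).trans (specializes_refl _)).mem_closed
          (IsLocalRing.isClosed_singleton_closedPoint A) hh'
      haveI : Subsingleton (PrimeSpectrum A) := ⟨fun a b => (hu a).trans (hu b).symm⟩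
      exact le_antisymm (Order.krullDim_nonpos_of_subsingleton) ringKrullDim_nonneg_of_nontrivial
    rw [hdim] at h1
    exact absurd h1 (by decide)
  have hne : J.comap f ≠ ⊥ := by
    intro h0
    have h1 : genericPoint X ∈ ((J.comap f).support : Set X) := by rw [h0]; simp
    rw [Scheme.IdealSheafData.support_comap] at h1
    have h2 : f (genericPoint X) ∈ (J.support : Set (Spec (CommRingCat.of A))) := h1
    rw [e, hJs] at h2
    exact h2 hgen
  obtain ⟨X'', g, hg, hinv⟩ := Groth.L05.PtSeq.exists_invertible hreg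
    (Groth.L05.PtSeq.dim_le_of_stalks (hf.dim_le hdim)) (J.comap f) hne
  obtain ⟨hreg'', K, hK, hKs⟩ := blowUp_of_contractionSeq hg inferInstance hreg
  have hg2 : BlowUp.IsBlowUp g (J.comap f * K) := by
    have h1 := Groth.L13.Nagata.isBlowUp_comp_mul hK (Groth.L07.BlowLib.isBlowUp_id hinv)
    rwa [Category.id_comp, mul_comm] at h1
  obtain ⟨T'', d, hd⟩ := Groth.L13.BU.exists_isBlowUp (K.comap c)
  have hdc := Groth.L13.Nagata.isBlowUp_comp_mul hc hd
  obtain ⟨i, hi, -⟩ := hg2.2 T'' (d ≫ c) hdc.1
  haveI : IsIso i := Groth.L13.BU.isIso_of_blowUps hg2 hdc i hi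
  haveI := hiso
  have hT' : BlowUp.IsBlowUp (h ≫ b) J := Groth.L13.Nagata.isBlowUp_congr_iso hb (asIso h)
  haveI : IsProper c := Groth.L13.BU.isProper_blowUp hc (isFiniteType_of_noetherian _)
  haveI : IsLocallyNoetherian T' := LocallyOfFiniteType.isLocallyNoetherian c
  haveI : CompactSpace T' := QuasiCompact.compactSpace_of_compactSpace c
  obtain ⟨𝓚, h𝓚, hsupp, hblow⟩ := Groth.L06.BlowComp.exists_isBlowUp_comp hT' (isFiniteType_of_noetherian _)
    (isFiniteType_of_noetherian _) hd
  refine ⟨𝓚, T'', d ≫ h ≫ b, ⟨h𝓚, ?_⟩, hblow, fun y => ?_⟩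
  · rw [Set.disjoint_left]
    intro z hz hzU
    rw [hsupp] at hz
    rcases hz with hz | ⟨w, hw, rfl⟩
    · rw [hJs] at hz; exact hz hzU
    · rw [Scheme.IdealSheafData.support_comap] at hw
      have h2 := isClosed_image_singleton f (hKs _ hw)
      refine hzU ?_
      show (h ≫ b) w = IsLocalRing.closedPoint A
      rw [hh, Scheme.Hom.comp_apply]
      exact PrimeSpectrum.ext (IsLocalRing.eq_maximalIdeal ((PrimeSpectrum.isClosed_singleton_iff_isMaximal _).1 h2))
  · haveI := hreg'' (i y)
    exact IsRegularLocalRing.of_ringEquiv (asIso (i.stalkMap y)).commRingCatIsoToRingEquiv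

end

/-- A two dimensional local ring with normal completion has a regular admissible blow-up. -/
theorem exists_admissible_local (A : Type u) [CommRing A] [IsLocalRing A] [IsNoetherianRing A]
    [IsDomain (Curv2.cpl A)] [IsIntegrallyClosed (Curv2.cpl A)] (hdim : ringKrullDim A = 2) :
    ∃ (I : (Spec (CommRingCat.of A)).IdealSheafData) (X : Scheme.{u}) (b : X ⟶ Spec (CommRingCat.of A)),
      BlowUp.IsAdmissibleFor (FEt.puncturedSpec A) I ∧ BlowUp.IsBlowUp b I ∧ IsProper b ∧
      ∀ x : X, IsRegularLocalRing (X.presheaf.stalk x) := by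
  haveI := isAdicComplete_cpl A
  haveI : IsNoetherianRing (Curv2.cpl A) := inferInstanceAs (IsNoetherianRing (EGA4.Cpl A))
  have hd : ringKrullDim (Curv2.cpl A) = 2 := by
    show ringKrullDim (EGA4.Cpl A) = 2
    rw [Groth.L01.CompletionReg.ringKrullDim_completion, hdim]
  obtain ⟨J, Y, c, hJ, hc, hreg⟩ := exists_admissible_complete (Curv2.cpl A) hd
  obtain ⟨I, X, b, hI, hb, e, he⟩ := Groth.Agent.S7304.result A Y c J hJ hc
  haveI : IsProper b := Groth.L13.BU.isProper_blowUp hb hI.1
  refine ⟨I, X, b, hI, hb, inferInstance, (Groth.Agent.S1597.result A X b).2 fun y => ?_⟩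
  haveI := hreg (e.inv y)
  exact IsRegularLocalRing.of_ringEquiv (asIso (e.inv.stalkMap y)).commRingCatIsoToRingEquiv

end Groth.L05.PtChain
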