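import Groth.Agent.L05.PtChain.NoChain
import Groth.Agent.L05.RatPow.SpreadExt
import Groth.Agent.L28.CplUnram.Basic
import Groth.Agent.S11781
import Groth.Agent.S2654
import Mathlib.RingTheory.EssentialFiniteness

/-! Rational singularities give good rings; steps preserve rationality. -/

set_option autoImplicit false
set_option maxSynthPendingDepth 5
set_option linter.style.haveILetI false
set_option backward.isDefEq.respectTransparency false
set_option backward.isDefEq.respectTransparency.types false
set_option maxHeartbeats 800000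

universe u

noncomputable section

namespace Groth.L05.PtChain

open IsLocalRing Groth.L13.BU

/-- An excellent ring is Nagata. -/
theorem isNagata_of_excellent {A : Type u} [CommRing A] (h : EGA4.IsExcellent A) : CAlg.IsNagata A :=
  Groth.Agent.S2654.result A ⟨h.1, h.2.2.1, h.2.2.2⟩

theorem length_quot_pow_succ (T : Type u) [CommRing T] [IsLocalRing T] (r : ℕ) :
    Module.length T (T ⧸ maximalIdeal T ^ (r + 1)) =
      Module.length T (↥(maximalIdeal T ^ r) ⧸
        Submodule.comap (maximalIdeal T ^ r).subtype (maximalIdeal T ^ (r + 1))) +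
      Module.length T (T ⧸ maximalIdeal T ^ r) := by
  set P : Submodule T T := maximalIdeal T ^ r
  set Q : Submodule T T := maximalIdeal T ^ (r + 1)
  have hle : Q ≤ P := Ideal.pow_le_pow_right (Nat.le_succ r)
  let ι : (↥P ⧸ Submodule.comap P.subtype Q) →ₗ[T] T ⧸ Q := Submodule.mapQ _ Q P.subtype le_rfl
  let π : (T ⧸ Q) →ₗ[T] T ⧸ P := Submodule.factor hle
  refine Module.length_eq_add_of_exact ι π ?_ (Submodule.factor_surjective hle) ?_
  · refine (injective_iff_map_eq_zero ι).2 fun z hz => ?_
    obtain ⟨z, rfl⟩ := Submodule.Quotient.mk_surjective _ z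
    have h1 : (Submodule.Quotient.mk (z : T) : T ⧸ Q) = 0 := hz
    rw [Submodule.Quotient.mk_eq_zero] at h1 ⊢
    exact h1
  · intro z
    obtain ⟨z, rfl⟩ := Submodule.Quotient.mk_surjective _ z
    constructor
    · intro hz
      have h1 : z ∈ P := (Submodule.Quotient.mk_eq_zero P).1 hz
      exact ⟨Submodule.Quotient.mk ⟨z, h1⟩, rfl⟩
    · rintro ⟨w, hw⟩
      obtain ⟨w, rfl⟩ := Submodule.Quotient.mk_surjective _ w
      rw [← hw]
      exact (Submodule.Quotient.mk_eq_zero P).2 w.2

theorem hlin_of_rational {T : Type u} [CommRing T] [IsDomain T] [IsLocalRing T] [IsNoetherianRing T]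
    [IsIntegrallyClosed T] (hexc : EGA4.IsExcellent T) (hdim : ringKrullDim T = 2) (hA : Curv2.IsRationalSing T) :
    ∃ μ, HLin T μ := by
  obtain ⟨μ, hμ⟩ := Groth.Agent.S11781.result T hexc hdim hA
  refine ⟨μ, fun r => ?_⟩
  induction r with
  | zero =>
    rw [pow_zero, Ideal.one_eq_top, Finset.sum_range_zero, Nat.cast_zero]
    exact Module.length_eq_zero
  | succ r ih => rw [length_quot_pow_succ, hμ r, ih, Finset.sum_range_succ, ← Nat.cast_add, add_comm (r * μ + 1)]

theorem good_of_rational {T : Type u} [CommRing T] [IsDomain T] [IsLocalRing T] [IsNoetherianRing T]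
    [IsIntegrallyClosed T] (hexc : EGA4.IsExcellent T) (hdim : ringKrullDim T = 2) (hA : Curv2.IsRationalSing T)
    (hs : ¬ IsRegularLocalRing T) : Good T := by
  haveI : IsLocalization.AtPrime T (maximalIdeal T) := IsLocalization.self fun x hx =>
    not_not.1 fun h => hx (show x ∈ maximalIdeal T from h)
  obtain ⟨-, hd, hn⟩ := Groth.L28.CplUnram.completion_normal_domain hexc T (maximalIdeal T) T
  exact ⟨hdim, hd, hn, hs, hlin_of_rational hexc hdim hA⟩

theorem rational_of_step {T T' : Type u} [CommRing T] [IsDomain T] [IsLocalRing T] [IsNoetherianRing T]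
    [IsIntegrallyClosed T] [CommRing T'] [IsLocalRing T'] (hexc : EGA4.IsExcellent T) (hdim : ringKrullDim T = 2)
    (hA : Curv2.IsRationalSing T) {φ : T →+* T'} (hφ : IsPtStep φ) [IsIntegrallyClosed T']
    (hdim' : ringKrullDim T' = 2) : Curv2.IsRationalSing T' := by
  haveI := hφ.isDomain
  have hinj := hφ.injective
  have hfr := hφ.exists_frac
  haveI hloc := hφ.isLocalHom
  obtain ⟨a, ha, q, hq, hna, -, e, he⟩ := hφ
  letI : Algebra T T' := φ.toAlgebra
  letI : Algebra T (Chart (maximalIdeal T) a ha) := (chartHom (maximalIdeal T) a ha).toAlgebra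
  letI : Algebra (Chart (maximalIdeal T) a ha) T' :=
    (e.toRingHom.comp (algebraMap _ (Localization.AtPrime q))).toAlgebra
  have tower : @IsScalarTower T (Chart (maximalIdeal T) a ha) T' Algebra.toSMul Algebra.toSMul Algebra.toSMul :=
    IsScalarTower.of_algebraMap_eq fun x => (he x).symm
  haveI : Algebra.FiniteType T (Chart (maximalIdeal T) a ha) :=
    Groth.L05.RatPow.finiteType_chartHom (maximalIdeal T) a ha
  let E : Localization.AtPrime q ≃ₐ[Chart (maximalIdeal T) a ha] T' := { e with commutes' := fun _ => rfl }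
  haveI : IsLocalization.AtPrime T' q := IsLocalization.isLocalization_of_algEquiv q.primeCompl E
  haveI : Algebra.EssFiniteType (Chart (maximalIdeal T) a ha) T' :=
    Algebra.EssFiniteType.of_isLocalization T' q.primeCompl
  haveI : Algebra.EssFiniteType T T' := @Algebra.EssFiniteType.comp T (Chart (maximalIdeal T) a ha) T' _ _ _ _ _ _ tower inferInstance inferInstance
  haveI : IsLocalHom (algebraMap T T') := hloc
  refine Groth.L05.RatSpread.isRationalSing_ext (A := T) (B := T') (isNagata_of_excellent hexc) hdim hA hinj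
    (fun b => ?_) hdim'
  obtain ⟨r, s, hs, he'⟩ := hfr b
  exact ⟨r, s, hs, by rw [mul_comm]; exact he'⟩

end Groth.L05.PtChain
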