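import Groth.Agent.L05.PtChain.Geo.ModelNormal
import Groth.Agent.L05.NormChar.Main
import Groth.Agent.S7327
import Groth.Agent.L05.PtChain.NoChain
import Groth.Agent.L05.MinModel.Main
import Groth.Agent.S2351

/-! Normalised models of geometrically normal varieties. -/

set_option autoImplicit false
set_option maxSynthPendingDepth 5
set_option linter.style.haveILetI false
set_option backward.isDefEq.respectTransparency false
set_option backward.isDefEq.respectTransparency.types false
set_option maxHeartbeats 800000

universe u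

open CategoryTheory CategoryTheory.Limits AlgebraicGeometry TopologicalSpace IsLocalRing
open Groth.L05.MinModel (gen)

noncomputable section

namespace Groth.L05.PtChain

/-- The completion of a discrete valuation ring is one. -/
theorem exists_dvr_cpl (R : Type u) [CommRing R] [IsDomain R] [IsDiscreteValuationRing R] :
    ∃ _ : IsDomain (Curv2.cpl R), IsDiscreteValuationRing (Curv2.cpl R) :=
  (Groth.Agent.S0549.result R).1 ⟨‹_›, ‹_›⟩

/-- The square of fraction fields. -/
theorem exists_frac_map (R S K L : Type u) [CommRing R] [IsDomain R] [CommRing S] [IsDomain S] [Algebra R S]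
    [Field K] [Algebra R K] [IsFractionRing R K] [Field L] [Algebra S L] [IsFractionRing S L]
    (h : Function.Injective (algebraMap R S)) :
    ∃ φ : K →+* L, CommRingCat.ofHom (algebraMap R K) ≫ CommRingCat.ofHom φ =
        CommRingCat.ofHom (algebraMap R S) ≫ CommRingCat.ofHom (algebraMap S L) := by
  have hinj : Function.Injective ((algebraMap S L).comp (algebraMap R S)) :=
    (IsFractionRing.injective S L).comp h
  refine ⟨IsFractionRing.lift (K := K) hinj, CommRingCat.hom_ext (RingHom.ext fun r => ?_)⟩
  exact IsFractionRing.lift_algebraMap hinj r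

variable {R : Type u} [CommRing R] [IsDomain R] [IsDiscreteValuationRing R]
  {V X : Scheme.{u}} {f : V ⟶ Spec (CommRingCat.of (FractionRing R))} {p : X ⟶ Spec (CommRingCat.of R)}
  {g : V ⟶ X}

/-- The base change of a model to the completion is normal away from the closed fibre. -/
theorem normal_off_closed (hg : IsPullback g f p (gen R))
    (hgn : ∀ (K' : Type u) [Field K'] [Algebra (FractionRing R) K'],
      Pi1.IsNormalScheme (pullback f (Spec.map (CommRingCat.ofHom (algebraMap (FractionRing R) K')))))
    (y : ↥(Curv2.bcCpl R p)) (hy : (Curv2.bcCplSnd R p).base y ≠ closedPoint (Curv2.cpl R)) :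
    IsDomain ((Curv2.bcCpl R p).presheaf.stalk y) ∧ IsIntegrallyClosed ((Curv2.bcCpl R p).presheaf.stalk y) := by
  obtain ⟨hdom, hdvr⟩ := exists_dvr_cpl R
  haveI := hdom
  haveI := hdvr
  haveI : Module.FaithfullyFlat R (EGA4.Cpl R) := Groth.L06.NormalAscent.faithfullyFlat_cpl R
  let Kh := FractionRing (Curv2.cpl R)
  obtain ⟨φ, hφ⟩ := exists_frac_map R (Curv2.cpl R) (FractionRing R) Kh (FaithfulSMul.algebraMap_injective R (EGA4.Cpl R))
  letI : Algebra (FractionRing R) Kh := φ.toAlgebra
  let γ : Spec (CommRingCat.of Kh) ⟶ Spec (CommRingCat.of (FractionRing R)) :=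
    Spec.map (CommRingCat.ofHom φ)
  let β : Spec (CommRingCat.of (Curv2.cpl R)) ⟶ Spec (CommRingCat.of R) :=
    Spec.map (CommRingCat.ofHom (algebraMap R (Curv2.cpl R)))
  have hγ : γ ≫ gen R = gen (Curv2.cpl R) ≫ β := by
    show Spec.map _ ≫ Spec.map _ = Spec.map _ ≫ Spec.map _
    rw [← Spec.map_comp, ← Spec.map_comp, hφ]
  have hbig : IsPullback (pullback.fst f γ ≫ g) (pullback.snd f γ) p (gen (Curv2.cpl R) ≫ β) := by
    rw [← hγ]
    exact (IsPullback.of_hasPullback f γ).paste_horiz hg
  let k : pullback f γ ⟶ Curv2.bcCpl R p :=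
    pullback.lift (pullback.fst f γ ≫ g) (pullback.snd f γ ≫ gen (Curv2.cpl R)) (by rw [hbig.w, Category.assoc])
  have hk : IsPullback k (pullback.snd f γ) (Curv2.bcCplSnd R p) (gen (Curv2.cpl R)) :=
    IsPullback.of_right (by rw [pullback.lift_fst]; exact hbig) (pullback.lift_snd _ _ _)
      (IsPullback.of_hasPullback p β)
  haveI := Groth.L05.MinModel.isOpenImmersion_gen (R := Curv2.cpl R)
  haveI : IsOpenImmersion k := MorphismProperty.of_isPullback hk.flip inferInstance
  obtain ⟨w, hw⟩ : (Curv2.bcCplSnd R p).base y ∈ Set.range (gen (Curv2.cpl R)) := by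
    rw [Groth.L05.MinModel.range_gen]; exact hy
  obtain ⟨z, hz, -⟩ := Scheme.exists_preimage_of_isPullback hk y w hw.symm
  subst hz
  have hn := hgn Kh z
  haveI := hn.1
  haveI := hn.2
  exact ⟨(asIso (k.stalkMap z)).commRingCatIsoToRingEquiv.toMulEquiv.isDomain,
    IsIntegrallyClosed.of_equiv (asIso (k.stalkMap z)).commRingCatIsoToRingEquiv.symm⟩

/-- A geometrically normal scheme is normal. -/
theorem normal_generic
    (hgn : ∀ (K' : Type u) [Field K'] [Algebra (FractionRing R) K'],
      Pi1.IsNormalScheme (pullback f (Spec.map (CommRingCat.ofHom (algebraMap (FractionRing R) K'))))) :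
    Pi1.IsNormalScheme V := by
  have h := hgn (FractionRing R)
  haveI : IsIso (Spec.map (CommRingCat.ofHom (algebraMap (FractionRing R) (FractionRing R)))) := by
    rw [show CommRingCat.ofHom (algebraMap (FractionRing R) (FractionRing R)) = 𝟙 _ from rfl, Spec.map_id]
    infer_instance
  exact Groth.L05.NormChar.normal_iso
    (asIso (pullback.fst f (Spec.map (CommRingCat.ofHom (algebraMap (FractionRing R) (FractionRing R)))))).symm h

/-- The completed local rings of a normal model of a geometrically normal scheme are normal domains. -/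
theorem completion_normal_of_model [IsIntegral X] [LocallyOfFiniteType p] [Flat p] [LocallyOfFiniteType f]
    (hn : Pi1.IsNormalScheme X) (hg : IsPullback g f p (gen R))
    (hgn : ∀ (K' : Type u) [Field K'] [Algebra (FractionRing R) K'],
      Pi1.IsNormalScheme (pullback f (Spec.map (CommRingCat.ofHom (algebraMap (FractionRing R) K')))))
    (x : X) : IsDomain (Curv2.cpl (X.presheaf.stalk x)) ∧ IsIntegrallyClosed (Curv2.cpl (X.presheaf.stalk x)) := by
  haveI : IsNoetherianRing R := inferInstance
  haveI : IsLocallyNoetherian X := LocallyOfFiniteType.isLocallyNoetherian p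
  by_cases hx : p x = closedPoint R
  · obtain ⟨ϖ, hϖ⟩ := IsDiscreteValuationRing.exists_irreducible R
    have hN := isNormal_bcCpl hϖ.maximalIdeal_eq hϖ.ne_zero p hn (normal_off_closed hg hgn)
    obtain ⟨q, hq, hq2⟩ := Scheme.Pullback.exists_preimage_pullback (f := p)
      (g := Spec.map (CommRingCat.ofHom (algebraMap R (Curv2.cpl R)))) x (closedPoint (Curv2.cpl R))
      (hx.trans (IsLocalRing.comap_closedPoint (algebraMap R (Curv2.cpl R))).symm)
    have hq' : (Curv2.bcCplFst R p) q = x := hq
    subst hq'
    haveI : IsNoetherianRing (Curv2.cpl R) := Groth.L01.AnalUnram.isNoetherianRing_completion R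
    haveI : IsLocallyNoetherian (Curv2.bcCpl R p) :=
      LocallyOfFiniteType.isLocallyNoetherian (Curv2.bcCplSnd R p)
    haveI := Groth.L05.PtChain.isAdicComplete_cpl R
    obtain ⟨W, hW, hWe⟩ := exists_excellent_nhd (Curv2.bcCplSnd R p)
      (excellent_affineOpens_spec (Groth.Agent.S2652.result (Curv2.cpl R))) q
    haveI := (hN q).1
    haveI := (hN q).2
    haveI : IsNoetherianRing ((Curv2.bcCpl R p).presheaf.stalk q) :=
      Groth.L14.RegImmStalk.isNoetherianRing_stalk' (X := Curv2.bcCpl R p) q
    obtain ⟨h1, h2⟩ := completion_normal_of_gRing _ (gRing_stalk_of_nhd W hW hWe.2.2.1)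
    obtain ⟨e⟩ := cpl_equiv_stalk p q hx
    haveI := h1
    haveI := h2
    exact ⟨e.toMulEquiv.isDomain, IsIntegrallyClosed.of_equiv e.symm⟩
  · obtain ⟨c, rfl⟩ : x ∈ Set.range g := by rw [Groth.L05.MinModel.range_model hg]; exact hx
    haveI := Groth.L05.MinModel.isOpenImmersion_model hg
    obtain ⟨W, hW, hWe⟩ := exists_excellent_nhd f
      (excellent_affineOpens_spec (excellent_field (FractionRing R))) c
    have hG := gRing_stalk_of_nhd W hW hWe.2.2.1
    let e := (asIso (g.stalkMap c)).commRingCatIsoToRingEquiv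
    haveI := (hn (g c)).1
    haveI := (hn (g c)).2
    haveI : IsNoetherianRing (X.presheaf.stalk (g c)) := Groth.L14.RegImmStalk.isNoetherianRing_stalk' (X := X) _
    letI : Algebra (V.presheaf.stalk c) (X.presheaf.stalk (g c)) := e.symm.toRingHom.toAlgebra
    haveI : IsLocalization (⊥ : Submonoid (V.presheaf.stalk c)) (X.presheaf.stalk (g c)) :=
      IsLocalization.of_le_isUnit_of_bijective (by rintro _ ⟨x, hx, rfl⟩; rw [Submonoid.mem_bot.1 hx, map_one]; exact isUnit_one) e.symm.bijective
    exact completion_normal_of_gRing _ (Groth.L06.GRingFT.isGRing_localization (⊥ : Submonoid (V.presheaf.stalk c)) _ hG)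

/-- The normalization is an isomorphism over a normal open. -/
theorem isIso_normalization_over {X : Scheme.{u}} [IsIntegral X]
    [QuasiCompact (X.fromSpecStalk (genericPoint X))] [QuasiSeparated (X.fromSpecStalk (genericPoint X))]
    (G : X.Opens) (hG : ∀ x ∈ G, IsIntegrallyClosed (X.presheaf.stalk x)) :
    IsIso (Curv2.normalizationι X ∣_ G) := by
  show MorphismProperty.isomorphisms Scheme (Curv2.normalizationι X ∣_ G)
  refine (IsZariskiLocalAtTarget.iff_of_iSup_eq_top
    (P := MorphismProperty.isomorphisms Scheme)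
    (fun W : {W : X.Opens // IsAffineOpen W ∧ W ≤ G ∧ (W : Set X).Nonempty} => G.ι ⁻¹ᵁ W.1) ?_).2 fun W => ?_
  · refine top_le_iff.1 fun x _ => ?_
    obtain ⟨W, hW, hxW, hle⟩ := exists_isAffineOpen_mem_and_subset (x := G.ι x) (U := G) x.2
    exact Opens.mem_iSup.2 ⟨⟨W, hW, hle, ⟨_, hxW⟩⟩, hxW⟩
  · haveI := Groth.L05.NormChar.isIso_restrict_of_normal (X := X) W.2.1 W.2.2.2 fun x hx => hG x (W.2.2.1 hx)
    exact Groth.L05.PtSeq.isIso_restrict_restrict (Curv2.normalizationι X)
      (O := W.1) ‹_› G _ fun v hv => hv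

/-- A morphism that is an isomorphism over the generic fibre gives a model. -/
theorem exists_model_over {X₁ : Scheme.{u}} (ν : X₁ ⟶ X) (hg : IsPullback g f p (gen R))
    (hiso : haveI := Groth.L05.MinModel.isOpenImmersion_model hg; IsIso (ν ∣_ g.opensRange)) :
    ∃ g' : V ⟶ X₁, g' ≫ ν = g ∧ IsPullback g' f (ν ≫ p) (gen R) := by
  haveI := Groth.L05.MinModel.isOpenImmersion_model hg
  let G := g.opensRange
  haveI : IsIso (ν ∣_ G) := hiso
  have hsq1 : IsPullback (pullback.fst ν g) (pullback.snd ν g) ν g := IsPullback.of_hasPullback ν g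
  have hsq2 : IsPullback (ν ⁻¹ᵁ G).ι (ν ∣_ G) ν G.ι := (isPullback_morphismRestrict ν G).flip
  let a : pullback ν g ⟶ (ν ⁻¹ᵁ G : Scheme.{u}) := hsq2.lift (pullback.fst ν g)
    (pullback.snd ν g ≫ g.isoOpensRange.hom) (by
      rw [Category.assoc, Scheme.Hom.isoOpensRange_hom_ι]; exact pullback.condition)
  have hsq3 : IsPullback a (pullback.snd ν g) (ν ∣_ G) g.isoOpensRange.hom :=
    IsPullback.of_right (by rw [hsq2.lift_fst, Scheme.Hom.isoOpensRange_hom_ι]; exact hsq1)
      (hsq2.lift_snd _ _ _) hsq2
  haveI : IsIso (pullback.snd ν g) := hsq3.isIso_snd_of_isIso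
  refine ⟨inv (pullback.snd ν g) ≫ pullback.fst ν g, by rw [Category.assoc, pullback.condition, IsIso.inv_hom_id_assoc], ?_⟩
  have hbig := hsq1.paste_vert hg
  exact IsPullback.of_iso hbig (asIso (pullback.snd ν g)) (Iso.refl _) (Iso.refl _) (Iso.refl _)
    (by simp) (by simp) (by simp) (by simp)

/-- The normalisation of a model is a model. -/
theorem exists_normalized_model [IsIntegral X]
    [QuasiCompact (X.fromSpecStalk (genericPoint X))] [QuasiSeparated (X.fromSpecStalk (genericPoint X))]
    (hg : IsPullback g f p (gen R)) (hV : Pi1.IsNormalScheme V) :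
    ∃ g' : V ⟶ Curv2.normalization X, g' ≫ Curv2.normalizationι X = g ∧
      IsPullback g' f (Curv2.normalizationι X ≫ p) (gen R) := by
  haveI := Groth.L05.MinModel.isOpenImmersion_model hg
  refine exists_model_over (Curv2.normalizationι X) hg (isIso_normalization_over g.opensRange ?_)
  rintro _ ⟨v, rfl⟩
  haveI := (hV v).2
  exact IsIntegrallyClosed.of_equiv (asIso (g.stalkMap v)).commRingCatIsoToRingEquiv.symm

/-- Models of geometrically normal varieties have finite, analytically normal normalisation. -/
theorem normalization_of_model [IsIntegral V] [LocallyOfFiniteType f] [IsIntegral X]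
    [QuasiCompact (X.fromSpecStalk (genericPoint X))] [QuasiSeparated (X.fromSpecStalk (genericPoint X))]
    [LocallyOfFiniteType p] [QuasiCompact p] (hg : IsPullback g f p (gen R))
    (hgn : ∀ (K' : Type u) [Field K'] [Algebra (FractionRing R) K'],
      Pi1.IsNormalScheme (pullback f (Spec.map (CommRingCat.ofHom (algebraMap (FractionRing R) K'))))) :
    IsFinite (Curv2.normalizationι X) ∧
      ∀ x : ↥(Curv2.normalization X), IsDomain (Curv2.cpl ((Curv2.normalization X).presheaf.stalk x)) ∧
        IsIntegrallyClosed (Curv2.cpl ((Curv2.normalization X).presheaf.stalk x)) := by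
  have hfin := Groth.Agent.S7327.result R X p (normal_off_closed hg hgn)
  haveI := hfin
  refine ⟨hfin, fun x => ?_⟩
  obtain ⟨hint, hn, -⟩ := Groth.Agent.S2351.result X
  haveI := hint
  obtain ⟨g', -, hg'⟩ := exists_normalized_model hg (normal_generic hgn)
  let q := Curv2.normalizationι X ≫ p
  haveI : LocallyOfFiniteType q := inferInstance
  haveI : QuasiCompact q := inferInstance
  haveI : IsLocallyNoetherian (Curv2.normalization X) := LocallyOfFiniteType.isLocallyNoetherian q
  haveI : CompactSpace (Curv2.normalization X) := QuasiCompact.compactSpace_of_compactSpace q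
  haveI : AlgebraicGeometry.IsNoetherian (Curv2.normalization X) := {}
  haveI : Flat q := Groth.L05.MinModel.flat_model hg'
  exact completion_normal_of_model hn hg' hgn x

end Groth.L05.PtChain
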