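import Groth.Agent.L05.PtChain.Geo.QExc
import Groth.Agent.L06.NormalUnion
import Groth.Agent.L13.CplRegular
import Groth.Agent.L06.CplBaseChange
import Groth.Agent.L05.NormCpl.Basic
import Groth.Agent.L05.MinModel.Basic
import Groth.Agent.L13.BlowUp.Local
import Groth.Agent.S0549
import Groth.Agent.S2652

/-! Normal models over discrete valuation rings are analytically normal. -/

set_option autoImplicit false
set_option maxSynthPendingDepth 5
set_option linter.style.haveILetI false
set_option backward.isDefEq.respectTransparency false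
set_option backward.isDefEq.respectTransparency.types false
set_option maxHeartbeats 800000

universe u

open CategoryTheory CategoryTheory.Limits AlgebraicGeometry TopologicalSpace IsLocalRing Polynomial
open scoped TensorProduct

noncomputable section

namespace Groth.L05.PtChain

/-- Normality from an element `ϖ` with normal localisation and the same quotients as a normal domain. -/
theorem normal_of_mod_eq {B S : Type u} [CommRing B] [IsDomain B] [IsIntegrallyClosed B] [CommRing S]
    [IsNoetherianRing S] (φ : B →+* S) {ϖ : B} (hϖ : ϖ ≠ 0) (hnzd : φ ϖ ∈ nonZeroDivisors S)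
    (hsurj : ∀ (N : ℕ) (s : S), ∃ b, s - φ b ∈ Ideal.span {φ ϖ ^ N})
    (hinj : ∀ (N : ℕ) (b : B), φ b ∈ Ideal.span {φ ϖ ^ N} → b ∈ Ideal.span {ϖ ^ N})
    (hN : EGA4.IsNormalRing (Localization.Away (φ ϖ))) : EGA4.IsNormalRing S := by
  let c := φ ϖ
  let T := Localization.Away c
  have hle : Submonoid.powers c ≤ nonZeroDivisors S := Submonoid.powers_le.2 hnzd
  have hι : Function.Injective (algebraMap S T) := IsLocalization.injective T hle
  haveI : IsNoetherianRing T := IsLocalization.isNoetherianRing (Submonoid.powers c) T inferInstance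
  refine (Groth.L06.NormalTensor.normal_of_integrallyClosedIn (algebraMap S T) hι ?_ hN
    (Groth.L06.NormalTensor.idem_of_normal_noetherian hN)).1
  rintro y ⟨P, hP, hy⟩
  obtain ⟨n, a, ha⟩ := IsLocalization.Away.surj c y
  suffices ∃ a', a = c ^ n * a' by
    obtain ⟨a', rfl⟩ := this
    refine ⟨a', ?_⟩
    rw [map_mul, map_pow, mul_comm (algebraMap S T c ^ n)] at ha
    exact ((IsLocalization.Away.algebraMap_isUnit c).pow n).mul_right_cancel ha.symm
  by_cases hcu : IsUnit c
  · obtain ⟨v, hv⟩ := (hcu.pow n).dvd (a := a)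
    exact ⟨v, hv⟩
  haveI : Nontrivial S := nontrivial_of_ne c 1 fun h => hcu (h ▸ isUnit_one)
  haveI : Nontrivial T := hι.nontrivial
  have hd : 0 < P.natDegree := Nat.pos_of_ne_zero fun h0 => by
    rw [hP.natDegree_eq_zero.1 h0, eval₂_one] at hy
    exact one_ne_zero hy
  have hrel : (P.scaleRoots (c ^ n)).eval a = 0 :=
    hι (by
      rw [map_zero, ← eval₂_at_apply, ← ha, mul_comm y, ← map_pow,
        scaleRoots_eval₂_mul (algebraMap S T), hy, mul_zero])
  let N := n * P.natDegree + n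
  let q := Ideal.Quotient.mk (Ideal.span {c ^ N})
  let ψ := q.comp φ
  have hψ : Function.Surjective ψ := fun z => by
    obtain ⟨s, rfl⟩ := Ideal.Quotient.mk_surjective z
    obtain ⟨b, hb⟩ := hsurj N s
    exact ⟨b, (Ideal.Quotient.eq.2 hb).symm⟩
  rcases eq_or_ne N 0 with hN0 | hN0
  · exact ⟨a, by rw [show n = 0 by omega, pow_zero, one_mul]⟩
  haveI : Nontrivial (S ⧸ Ideal.span {c ^ N}) := Ideal.Quotient.nontrivial_iff.2 fun h =>
    hcu ((isUnit_pow_iff hN0).1 (Ideal.span_singleton_eq_top.1 h))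
  obtain ⟨P0, hP0, hdeg, hP0m⟩ := lifts_and_natDegree_eq_and_monic
    ((lifts_iff_coeff_lifts _).2 fun i => hψ _ : P.map q ∈ lifts ψ) (hP.map q)
  rw [hP.natDegree_map q] at hdeg
  obtain ⟨a0, ha0⟩ := hψ (q a)
  have h1 : φ ((P0.scaleRoots (ϖ ^ n)).eval a0) ∈ Ideal.span {c ^ N} := by
    rw [← Ideal.Quotient.eq_zero_iff_mem]
    show ψ _ = 0
    rw [← eval₂_at_apply, ← Polynomial.eval_map, Polynomial.map_scaleRoots _ _ _ (by rw [hP0m, map_one]; exact one_ne_zero), hP0, ha0,
      show ψ (ϖ ^ n) = q (c ^ n) from by show q (φ (ϖ ^ n)) = _; rw [map_pow φ],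
      ← Polynomial.map_scaleRoots _ _ _ (by rw [hP, map_one]; exact one_ne_zero), Polynomial.eval_map, eval₂_at_apply, hrel, map_zero]
  obtain ⟨e, he⟩ := Ideal.mem_span_singleton'.1 (hinj N _ h1)
  let P1 := P0 - C (e * ϖ ^ n)
  have hP1 : P1.Monic := hP0m.sub_of_left (degree_C_le.trans_lt (by
    rw [hP0m.ne_zero |> degree_eq_natDegree, hdeg]; exact_mod_cast hd))
  let K := FractionRing B
  have hK : algebraMap B K (ϖ ^ n) ≠ 0 := (map_ne_zero_iff _ (IsFractionRing.injective B K)).2 (pow_ne_zero _ hϖ)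
  obtain ⟨z, hz⟩ : ∃ z, algebraMap B K z = algebraMap B K a0 / algebraMap B K (ϖ ^ n) := by
    refine IsIntegrallyClosed.isIntegral_iff.1 ⟨P1, hP1, ?_⟩
    have h2 := scaleRoots_eval₂_mul (algebraMap B K) (p := P0)
      (algebraMap B K a0 / algebraMap B K (ϖ ^ n)) (ϖ ^ n)
    rw [mul_div_cancel₀ _ hK, eval₂_at_apply, ← he, hdeg] at h2
    rw [eval₂_sub, eval₂_C, sub_eq_zero]
    refine mul_left_cancel₀ (pow_ne_zero P.natDegree hK) (h2.symm.trans ?_)
    rw [show N = n * P.natDegree + n from rfl, pow_add, pow_mul]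
    simp only [map_mul, map_pow]
    ring
  have hza : a0 = ϖ ^ n * z := IsFractionRing.injective B K (by
    rw [map_mul, hz, mul_div_cancel₀ _ hK])
  obtain ⟨s, hs⟩ := Ideal.mem_span_singleton'.1 (Ideal.Quotient.eq.1 ha0.symm)
  refine ⟨φ z + c ^ (n * P.natDegree) * s, ?_⟩
  rw [hza, map_mul, map_pow, show N = n * P.natDegree + n from rfl, pow_add] at hs
  linear_combination -hs

/-- Affine opens of the spectrum of an excellent ring are excellent. -/
theorem excellent_affineOpens_spec {A : Type u} [CommRing A] (hA : EGA4.IsExcellent A)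
    (U : (Spec (CommRingCat.of A)).affineOpens) : EGA4.IsExcellent Γ(Spec (CommRingCat.of A), U) := by
  letI : Algebra A Γ(Spec (CommRingCat.of A), U.1) :=
    (Groth.L13.BU.affHom (𝟙 (Spec (CommRingCat.of A))) U.2).toAlgebra
  haveI : Algebra.FiniteType A Γ(Spec (CommRingCat.of A), U.1) := by
    have h : LocallyOfFiniteType (Spec.map (CommRingCat.ofHom
        (Groth.L13.BU.affHom (𝟙 (Spec (CommRingCat.of A))) U.2))) := by
      rw [← Groth.L13.BU.fromSpec_affHom (𝟙 (Spec (CommRingCat.of A))) U.2]; infer_instance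
    exact (HasRingHomProperty.Spec_iff (P := @LocallyOfFiniteType)).1 h
  exact Groth.Agent.S2651.result A hA _

theorem excellent_field (K : Type u) [Field K] : EGA4.IsExcellent K := by
  haveI : IsAdicComplete (maximalIdeal K) K := by
    rw [IsLocalRing.maximalIdeal_eq_bot]
    infer_instance
  exact Groth.Agent.S2652.result K

/-- An affine piece of the base change to the completion. -/
theorem exists_chart_cpl {A : Type u} [CommRing A] [IsLocalRing A] {X : Scheme.{u}} (f : X ⟶ Spec (CommRingCat.of A))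
    {V : X.Opens} (hV : IsAffineOpen V) (φ : A →+* Γ(X, V)) (hφ : hV.fromSpec ≫ f = Spec.map (CommRingCat.ofHom φ)) :
    letI := φ.toAlgebra
    ∃ k : Spec (CommRingCat.of (Γ(X, V) ⊗[A] EGA4.Cpl A)) ⟶ Curv2.bcCpl A f, IsOpenImmersion k ∧
      k ≫ Curv2.bcCplSnd A f = Spec.map (CommRingCat.ofHom
        (Algebra.TensorProduct.includeRight : EGA4.Cpl A →ₐ[A] Γ(X, V) ⊗[A] EGA4.Cpl A).toRingHom) ∧
      Set.range k = Curv2.bcCplFst A f ⁻¹' V := by
  letI := φ.toAlgebra
  let β := Spec.map (CommRingCat.ofHom (algebraMap A (EGA4.Cpl A)))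
  let inl := CommRingCat.ofHom (Algebra.TensorProduct.includeLeftRingHom : Γ(X, V) →+* Γ(X, V) ⊗[A] EGA4.Cpl A)
  let inr := CommRingCat.ofHom
    (Algebra.TensorProduct.includeRight : EGA4.Cpl A →ₐ[A] Γ(X, V) ⊗[A] EGA4.Cpl A).toRingHom
  have hT : IsPullback (Spec.map inl) (Spec.map inr) (hV.fromSpec ≫ f) β := by
    rw [hφ]
    exact isPullback_SpecMap_of_isPushout _ _ _ _ (CommRingCat.isPushout_tensorProduct A Γ(X, V) (EGA4.Cpl A))
  let k : Spec (CommRingCat.of (Γ(X, V) ⊗[A] EGA4.Cpl A)) ⟶ Curv2.bcCpl A f :=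
    pullback.lift (Spec.map inl ≫ hV.fromSpec) (Spec.map inr) (by rw [Category.assoc]; exact hT.w)
  have hk : IsPullback (Spec.map inl) k hV.fromSpec (pullback.fst f β) := by
    refine IsPullback.of_bot (v₂₁ := pullback.snd f β) (v₂₂ := f) ?_ (pullback.lift_fst _ _ _).symm
      (IsPullback.of_hasPullback f β)
    rw [pullback.lift_snd]
    exact hT
  refine ⟨k, MorphismProperty.of_isPullback hk inferInstance, pullback.lift_snd _ _ _, Set.ext fun y => ⟨?_, fun hy => ?_⟩⟩
  · rintro ⟨P, rfl⟩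
    show pullback.fst f β (k P) ∈ V
    rw [← Scheme.Hom.comp_apply, pullback.lift_fst, Scheme.Hom.comp_apply]
    rw [← SetLike.mem_coe, ← hV.range_fromSpec]
    exact ⟨_, rfl⟩
  · obtain ⟨w, hw⟩ : Curv2.bcCplFst A f y ∈ Set.range hV.fromSpec := by rw [hV.range_fromSpec]; exact hy
    obtain ⟨P, -, hP⟩ := Scheme.exists_preimage_of_isPullback hk w y hw
    exact ⟨P, hP⟩

/-- The base change of a normal model to the completion is normal. -/
theorem isNormal_bcCpl {A : Type u} [CommRing A] [IsLocalRing A] [IsNoetherianRing A] [IsDomain A] {ϖ : A}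
    (hϖ : maximalIdeal A = Ideal.span {ϖ}) (hϖ0 : ϖ ≠ 0) {X : Scheme.{u}} [IsIntegral X]
    (f : X ⟶ Spec (CommRingCat.of A)) [LocallyOfFiniteType f] [Flat f] (hn : Pi1.IsNormalScheme X)
    (hY : ∀ y : ↥(Curv2.bcCpl A f), (Curv2.bcCplSnd A f).base y ≠ IsLocalRing.closedPoint (Curv2.cpl A) →
      IsDomain ((Curv2.bcCpl A f).presheaf.stalk y) ∧ IsIntegrallyClosed ((Curv2.bcCpl A f).presheaf.stalk y)) :
    Pi1.IsNormalScheme (Curv2.bcCpl A f) := by
  haveI : IsLocallyNoetherian X := LocallyOfFiniteType.isLocallyNoetherian f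
  intro q
  obtain ⟨U, hU, hqU, -⟩ := exists_isAffineOpen_mem_and_subset (x := Curv2.bcCplFst A f q) (U := (⊤ : X.Opens)) trivial
  haveI : Nonempty U := ⟨⟨_, hqU⟩⟩
  let φ : A →+* Γ(X, U) := Groth.L13.BU.affHom f hU
  have hφ := Groth.L13.BU.fromSpec_affHom f hU
  letI := φ.toAlgebra
  haveI : Algebra.FiniteType A Γ(X, U) := by
    haveI : LocallyOfFiniteType (Spec.map (CommRingCat.ofHom φ)) := by rw [← hφ]; infer_instance
    exact (HasRingHomProperty.Spec_iff (P := @LocallyOfFiniteType)).1 this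
  haveI : Module.Flat A Γ(X, U) := by
    haveI : Flat (Spec.map (CommRingCat.ofHom φ)) := by rw [← hφ]; infer_instance
    exact RingHom.flat_algebraMap_iff.1 ((HasRingHomProperty.Spec_iff (P := @Flat)).1 this)
  haveI : IsIntegrallyClosed Γ(X, U) := Groth.L18.isIntegrallyClosed_of_isNormalScheme hn hU
  haveI : IsNoetherianRing (EGA4.Cpl A) := Groth.L01.AnalUnram.isNoetherianRing_completion A
  haveI : Module.Flat A (EGA4.Cpl A) := AdicCompletion.flat_of_isNoetherian _
  let S := Γ(X, U) ⊗[A] EGA4.Cpl A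
  haveI : IsNoetherianRing S :=
    haveI : IsNoetherianRing (EGA4.Cpl A ⊗[A] Γ(X, U)) := Algebra.FiniteType.isNoetherianRing (EGA4.Cpl A) _
    isNoetherianRing_of_ringEquiv (EGA4.Cpl A ⊗[A] Γ(X, U))
      (Algebra.TensorProduct.comm A (EGA4.Cpl A) Γ(X, U)).toRingEquiv
  obtain ⟨k, hk, hks, hkr⟩ := exists_chart_cpl f hU φ hφ
  haveI := hk
  obtain ⟨P, rfl⟩ : q ∈ Set.range k := by rw [hkr]; exact hqU
  let inc : Γ(X, U) →+* S := Algebra.TensorProduct.includeLeftRingHom
  have hφ0 : φ ϖ ≠ 0 := fun h => by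
    have h1 : Function.Injective (LinearMap.lsmul A Γ(X, U) ϖ) :=
      fun a b hab => (Module.Flat.isSMulRegular_of_isRegular (M := Γ(X, U))
        (IsRegular.of_ne_zero hϖ0)) hab
    have h2 : LinearMap.lsmul A Γ(X, U) ϖ 1 = LinearMap.lsmul A Γ(X, U) ϖ 0 := by
      show ϖ • (1 : Γ(X, U)) = ϖ • (0 : Γ(X, U))
      rw [Algebra.smul_def, mul_one, smul_zero]
      exact h
    exact one_ne_zero (h1 h2)
  have hnzd : inc (φ ϖ) ∈ nonZeroDivisors S := by
    rw [mem_nonZeroDivisors_iff_right]
    intro z hz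
    refine Module.Flat.rTensor_preserves_injective_linearMap (R := A) (M := EGA4.Cpl A)
      (LinearMap.mulLeft A (φ ϖ)) (fun a b hab => mul_left_cancel₀ hφ0 hab) ?_
    rw [map_zero]
    refine Eq.trans ?_ hz
    clear hz
    induction z using TensorProduct.induction_on with
    | zero => simp
    | tmul a b =>
      rw [LinearMap.rTensor_tmul, LinearMap.mulLeft_apply, show inc (φ ϖ) = φ ϖ ⊗ₜ[A] (1 : EGA4.Cpl A) from rfl,
        Algebra.TensorProduct.tmul_mul_tmul, mul_one, mul_comm]
    | add a b ha hb => rw [map_add, ha, hb, add_mul]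
  have hJ : ∀ N, (maximalIdeal A ^ N).map (CommRingCat.ofHom (algebraMap A Γ(X, U))).hom =
      Ideal.span {φ ϖ ^ N} := fun N => by
    rw [hϖ, Ideal.span_singleton_pow, Ideal.map_span, Set.image_singleton, map_pow]
    rfl
  have hmod : ∀ N, Groth.L13.CplStalk.IsModIso inc (Ideal.span {φ ϖ ^ N}) := fun N => by
    rw [← hJ N]
    exact Groth.L13.CplStalk.isModIso_of_isPushout (IsNoetherian.noetherian _) N
      (CommRingCat.isPushout_tensorProduct A Γ(X, U) (EGA4.Cpl A))
  have hS : EGA4.IsNormalRing S := by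
    refine normal_of_mod_eq inc hφ0 hnzd (fun N s => ?_) (fun N b hb => ?_) ?_
    · obtain ⟨b, hb⟩ := (hmod N).surj s
      exact ⟨b, by rwa [Ideal.map_span, Set.image_singleton, map_pow] at hb⟩
    · exact (hmod N).inj b (by rwa [Ideal.map_span, Set.image_singleton, map_pow])
    · intro P' _
      let c := inc (φ ϖ)
      have hc : algebraMap S (Localization.Away c) c ∉ P' := fun h =>
        (inferInstance : P'.IsPrime).ne_top (Ideal.eq_top_of_isUnit_mem _ h (IsLocalization.Away.algebraMap_isUnit c))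
      let Q : PrimeSpectrum S := ⟨P'.comap (algebraMap S (Localization.Away c)), Ideal.IsPrime.comap _⟩
      have hq : (Curv2.bcCplSnd A f).base (k Q) ≠ IsLocalRing.closedPoint (Curv2.cpl A) := by
        intro h
        have h1 : (Spec.map (CommRingCat.ofHom
            (Algebra.TensorProduct.includeRight : EGA4.Cpl A →ₐ[A] S).toRingHom)) Q = closedPoint (Curv2.cpl A) := by
          rw [← hks, Scheme.Hom.comp_apply]; exact h
        have h2 : algebraMap A (EGA4.Cpl A) ϖ ∈ maximalIdeal (EGA4.Cpl A) := by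
          rw [← Groth.L01.AnalUnram.completion_map_maximalIdeal]
          exact Ideal.mem_map_of_mem _ (hϖ.symm ▸ Ideal.mem_span_singleton_self ϖ)
        have h3 := (congrArg PrimeSpectrum.asIdeal h1).ge h2
        refine hc ?_
        show inc (φ ϖ) ∈ Q.asIdeal
        have h4 : inc (φ ϖ) = (Algebra.TensorProduct.includeRight : EGA4.Cpl A →ₐ[A] S) (algebraMap A _ ϖ) :=
          ((Algebra.TensorProduct.includeLeft : Γ(X, U) →ₐ[A] S).commutes ϖ).trans
            ((Algebra.TensorProduct.includeRight : EGA4.Cpl A →ₐ[A] S).commutes ϖ).symm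
        rw [h4]
        exact h3
      haveI := (hY (k Q) hq).1
      haveI := (hY (k Q) hq).2
      haveI : IsLocalization.AtPrime (Localization.AtPrime P') Q.asIdeal :=
        IsLocalization.isLocalization_isLocalization_atPrime_isLocalization (Submonoid.powers c) (Localization.AtPrime P') P'
      let e : Localization.AtPrime P' ≃+* (Curv2.bcCpl A f).presheaf.stalk (k Q) :=
        ((IsLocalization.algEquiv Q.asIdeal.primeCompl (Localization.AtPrime P')
          (Localization.AtPrime Q.asIdeal)).toRingEquiv.trans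
          (Spec.stalkIso (CommRingCat.of S) Q).commRingCatIsoToRingEquiv.symm).trans
          (asIso (k.stalkMap Q)).commRingCatIsoToRingEquiv.symm
      exact ⟨e.toMulEquiv.isDomain, IsIntegrallyClosed.of_equiv e.symm⟩
  let e : Localization.AtPrime P.asIdeal ≃+* (Curv2.bcCpl A f).presheaf.stalk (k P) :=
    ((Spec.stalkIso (CommRingCat.of S) P).commRingCatIsoToRingEquiv.symm).trans
      (asIso (k.stalkMap P)).commRingCatIsoToRingEquiv.symm
  haveI := (hS P.asIdeal).1
  haveI := (hS P.asIdeal).2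
  exact ⟨e.symm.toMulEquiv.isDomain, IsIntegrallyClosed.of_equiv e⟩

/-- Completions of stalks in the closed fibre do not change under base change to the completion. -/
theorem cpl_equiv_stalk {A : Type u} [CommRing A] [IsLocalRing A] [IsNoetherianRing A] {X : Scheme.{u}}
    (f : X ⟶ Spec (CommRingCat.of A)) [LocallyOfFiniteType f] (q : ↥(Curv2.bcCpl A f))
    (hq : f ((Curv2.bcCplFst A f) q) = closedPoint A) :
    Nonempty (Curv2.cpl (X.presheaf.stalk ((Curv2.bcCplFst A f) q)) ≃+* Curv2.cpl ((Curv2.bcCpl A f).presheaf.stalk q)) := by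
  haveI : IsNoetherianRing (Curv2.cpl A) := Groth.L01.AnalUnram.isNoetherianRing_completion A
  haveI : IsLocallyNoetherian X := LocallyOfFiniteType.isLocallyNoetherian f
  haveI : IsLocallyNoetherian (Curv2.bcCpl A f) :=
    LocallyOfFiniteType.isLocallyNoetherian (Curv2.bcCplSnd A f)
  haveI : IsNoetherianRing (X.presheaf.stalk ((Curv2.bcCplFst A f) q)) :=
    Groth.L14.RegImmStalk.isNoetherianRing_stalk' (X := X) _
  haveI : IsNoetherianRing ((Curv2.bcCpl A f).presheaf.stalk q) :=
    Groth.L14.RegImmStalk.isNoetherianRing_stalk' (X := Curv2.bcCpl A f) q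
  have hm : (maximalIdeal A).FG := IsNoetherian.noetherian _
  have hmax := Groth.L13.CplStalk.map_maximalIdeal_stalkMap hm f q hq
  refine Groth.L06.CplBaseChange.cpl_equiv ((Curv2.bcCplFst A f).stalkMap q).hom hmax (fun n s => ?_) fun n r hr => ?_
  · rcases Nat.eq_zero_or_pos n with rfl | hn
    · exact ⟨0, by simp⟩
    obtain ⟨J, hJ, h⟩ := Groth.L13.CplStalk.exists_isModIso_stalkMap hm f q hq n hn
    obtain ⟨b, hb⟩ := h.surj s
    refine ⟨b, ?_⟩
    have h1 := Ideal.map_mono (f := ((Curv2.bcCplFst A f).stalkMap q).hom) hJ hb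
    rwa [Ideal.map_pow, hmax] at h1
  · rcases Nat.eq_zero_or_pos n with rfl | hn
    · simp
    obtain ⟨J, hJ, h⟩ := Groth.L13.CplStalk.exists_isModIso_stalkMap hm f q hq n hn
    have hle : maximalIdeal (X.presheaf.stalk ((Curv2.bcCplFst A f) q)) ^ n ≤
        (maximalIdeal ((Curv2.bcCpl A f).presheaf.stalk q) ^ n).comap ((Curv2.bcCplFst A f).stalkMap q).hom := by
      rw [← Ideal.map_le_iff_le_comap, Ideal.map_pow, hmax]
    refine Ideal.Quotient.eq_zero_iff_mem.1 ((h.bijective_quotientMap_pow n hn hJ hle).1 ?_)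
    rw [map_zero, Ideal.quotientMap_mk, Ideal.Quotient.eq_zero_iff_mem]
    exact hr

end Groth.L05.PtChain
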