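import Groth.Agent.L05.PtChain.Geo.GoodOf
import Groth.Agent.L05.PtSeq.Birational
import Groth.Agent.L05.PtSeq.DomLocal
import Groth.Agent.L05.RelMinExists.Contract
import Groth.Agent.L18.CurveBasic
import Groth.Agent.L13.ModFibre
import Groth.Agent.L18.NormalExtend
import Groth.Agent.L13.BlowUp.Local
import Groth.Agent.S2650
import Groth.Agent.S2651

/-! Normal modifications with rational singularities. -/

set_option autoImplicit false
set_option maxSynthPendingDepth 5
set_option linter.style.haveILetI false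
set_option backward.isDefEq.respectTransparency false
set_option backward.isDefEq.respectTransparency.types false
set_option maxHeartbeats 800000

universe u

open CategoryTheory CategoryTheory.Limits AlgebraicGeometry TopologicalSpace

noncomputable section

namespace Groth.L05.PtChain

/-- A singular point. -/
def Sing (X : Scheme.{u}) (x : X) : Prop := ¬ IsRegularLocalRing (X.presheaf.stalk x)

variable {A : Type u} [CommRing A]

/-- A normal modification whose singular points are rational. -/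
structure RMod {X : Scheme.{u}} (f : X ⟶ Spec (CommRingCat.of A)) : Prop where
  proper : IsProper f
  integral : IsIntegral X
  normal : Pi1.IsNormalScheme X
  bir : Groth.L05.MinDesing.IsBir f
  rat : ∀ x, Sing X x → Curv2.IsRationalSing (X.presheaf.stalk x)

variable [IsNoetherianRing A] {X : Scheme.{u}} {f : X ⟶ Spec (CommRingCat.of A)}

theorem RMod.noetherian (h : RMod f) : AlgebraicGeometry.IsNoetherian X := by
  haveI := h.proper
  haveI : IsLocallyNoetherian X := LocallyOfFiniteType.isLocallyNoetherian f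
  haveI : CompactSpace X := QuasiCompact.compactSpace_of_compactSpace f
  exact {}

theorem exists_affine_algebra (h : RMod f) (x : X) :
    ∃ (V : X.affineOpens) (hx : x ∈ V.1) (_ : Algebra A Γ(X, V.1)),
      Algebra.FiniteType A Γ(X, V.1) ∧ IsDomain Γ(X, V.1) ∧ IsIntegrallyClosed Γ(X, V.1) := by
  haveI := h.proper
  haveI := h.integral
  obtain ⟨W, hW, hxW, -⟩ := exists_isAffineOpen_mem_and_subset (x := x) (U := (⊤ : X.Opens)) trivial
  letI : Algebra A Γ(X, W) := (Groth.L13.BU.affHom f hW).toAlgebra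
  haveI : Nonempty W := ⟨⟨x, hxW⟩⟩
  refine ⟨⟨W, hW⟩, hxW, inferInstance, ?_, inferInstance, ?_⟩
  · have h1 : LocallyOfFiniteType (Spec.map (CommRingCat.ofHom (Groth.L13.BU.affHom f hW))) := by
      rw [← Groth.L13.BU.fromSpec_affHom f hW]; infer_instance
    exact (HasRingHomProperty.Spec_iff (P := @LocallyOfFiniteType)).1 h1
  · exact Groth.L18.isIntegrallyClosed_of_isNormalScheme h.normal hW

theorem RMod.excellent_stalk (hA : EGA4.IsExcellent A) (h : RMod f) (x : X) :
    EGA4.IsExcellent (X.presheaf.stalk x) := by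
  obtain ⟨V, hx, _, hft, -, -⟩ := exists_affine_algebra h x
  haveI := hft
  letI := X.presheaf.algebra_section_stalk ⟨x, hx⟩
  haveI := V.2.isLocalization_stalk ⟨x, hx⟩
  set M := (V.2.primeIdealOf ⟨x, hx⟩).asIdeal.primeCompl
  have hL := Groth.Agent.S2650.result Γ(X, V.1) (Groth.Agent.S2651.result A hA Γ(X, V.1)) M
  let e : Localization M ≃ₐ[Γ(X, V.1)] X.presheaf.stalk x := IsLocalization.algEquiv M _ _
  letI : Algebra (Localization M) (X.presheaf.stalk x) := e.toRingEquiv.toRingHom.toAlgebra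
  haveI : Module.Finite (Localization M) (X.presheaf.stalk x) :=
    Module.Finite.of_surjective (Algebra.linearMap (Localization M) (X.presheaf.stalk x)) e.surjective
  exact Groth.Agent.S2651.result (Localization M) hL _

theorem RMod.isOpen_regular (hA : EGA4.IsExcellent A) (h : RMod f) : IsOpen {x : X | ¬ Sing X x} := by
  rw [isOpen_iff_forall_mem_open]
  intro x hx
  obtain ⟨V, hxV, _, hft, -, -⟩ := exists_affine_algebra h x
  haveI := hft
  have h1 : IsOpen (EGA4.regLocus Γ(X, V.1)) := hA.2.2.2 Γ(X, V.1) inferInstance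
  have h2 : ∀ (z : X) (hz : z ∈ V.1), V.2.primeIdealOf ⟨z, hz⟩ ∈ EGA4.regLocus Γ(X, V.1) ↔ ¬ Sing X z := by
    intro z hz
    letI := X.presheaf.algebra_section_stalk ⟨z, hz⟩
    haveI := V.2.isLocalization_stalk ⟨z, hz⟩
    let e : Localization.AtPrime (V.2.primeIdealOf ⟨z, hz⟩).asIdeal ≃+* X.presheaf.stalk z :=
      (IsLocalization.algEquiv (V.2.primeIdealOf ⟨z, hz⟩).asIdeal.primeCompl _ _).toRingEquiv
    show IsRegularLocalRing _ ↔ ¬¬ IsRegularLocalRing _
    rw [not_not]
    exact ⟨fun hr => haveI := hr; IsRegularLocalRing.of_ringEquiv e,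
      fun hr => haveI := hr; IsRegularLocalRing.of_ringEquiv e.symm⟩
  refine ⟨V.2.fromSpec '' EGA4.regLocus Γ(X, V.1), ?_, V.2.fromSpec.isOpenEmbedding.isOpenMap _ h1,
    ⟨_, (h2 x hxV).2 hx, V.2.fromSpec_primeIdealOf ⟨x, hxV⟩⟩⟩
  rintro _ ⟨p, hp, rfl⟩
  have hpV : V.2.fromSpec p ∈ V.1 := by
    rw [← SetLike.mem_coe, ← V.2.range_fromSpec]; exact ⟨p, rfl⟩
  have he : V.2.primeIdealOf ⟨_, hpV⟩ = p :=
    V.2.fromSpec.isOpenEmbedding.injective (V.2.fromSpec_primeIdealOf ⟨_, hpV⟩)
  exact (h2 _ hpV).1 (he.symm ▸ hp)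

variable [IsDomain A] [IsLocalRing A]

theorem RMod.dim_le (hdim : ringKrullDim A = 2) (h : RMod f) (x : X) : ringKrullDim (X.presheaf.stalk x) ≤ 2 := by
  haveI := h.proper
  haveI := h.integral
  obtain ⟨W, hW, hWi⟩ := h.bir
  haveI := hWi
  refine (Groth.L13.ModFibre.ringKrullDim_stalk_le f W ?_ x).trans
    ((Groth.L13.ModFibre.ringKrullDim_stalk_le_topologicalKrullDim _).trans
      ((PrimeSpectrum.topologicalKrullDim_eq_ringKrullDim A).trans hdim).le)
  obtain ⟨w, hw⟩ := hW
  obtain ⟨z, -⟩ := (f ∣_ W).homeomorph.surjective ⟨w, hw⟩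
  exact ⟨z.1, z.2⟩

theorem dim_le_one_of_lt_two {d : WithBot ℕ∞} (h : ¬ 2 ≤ d) : d ≤ 1 := by
  rcases d with _ | _ | d
  · exact bot_le
  · exact absurd le_top h
  · rw [not_le] at h
    have h2 : ((d : ℕ∞) : WithBot ℕ∞) < ((2 : ℕ∞) : WithBot ℕ∞) := h
    have h3 : d < 2 := by exact_mod_cast h2
    show ((d : ℕ∞) : WithBot ℕ∞) ≤ ((1 : ℕ∞) : WithBot ℕ∞)
    exact_mod_cast (Nat.lt_succ_iff.1 h3)

theorem RMod.sing_dim (hdim : ringKrullDim A = 2) (h : RMod f) {x : X} (hx : Sing X x) :
    ringKrullDim (X.presheaf.stalk x) = 2 := by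
  haveI := h.noetherian
  haveI := (h.normal x).1
  haveI := (h.normal x).2
  exact le_antisymm (h.dim_le hdim x) (not_not.1 fun hlt =>
    hx (Groth.L06.NormalAscent.regular_of_normal_dim_le_one (dim_le_one_of_lt_two hlt)))

theorem RMod.sing_closed (hdim : ringKrullDim A = 2) (h : RMod f) {x : X} (hx : Sing X x) :
    IsClosed ({x} : Set X) := by
  have hd : topologicalKrullDim X ≤ 2 := Groth.L05.PtSeq.dim_le_of_stalks (h.dim_le hdim)
  exact closure_subset_iff_isClosed.1 fun d hd' =>
    Groth.L05.RelMinExists.eq_of_dim_two_le hd (h.sing_dim hdim hx).ge (specializes_iff_mem_closure.2 hd')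

theorem RMod.sing_ne_generic (hdim : ringKrullDim A = 2) (h : RMod f) {x : X} (hx : Sing X x) :
    haveI := h.integral; genericPoint X ≠ x := by
  haveI := h.integral
  intro e
  have h1 := h.sing_dim hdim hx
  rw [← e, Groth.L05.PtSeq.dim_stalk_genericPoint] at h1
  exact absurd h1 (by decide)

theorem RMod.sing_finite (hA : EGA4.IsExcellent A) (hdim : ringKrullDim A = 2) (h : RMod f) :
    {x : X | Sing X x}.Finite := by
  haveI := h.noetherian
  refine Groth.L18.Curve.finite_of_forall_isClosed ?_ fun x hx => h.sing_closed hdim hx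
  rw [show {x : X | Sing X x} = {x : X | ¬ Sing X x}ᶜ by ext; simp]
  exact (h.isOpen_regular hA).isClosed_compl

theorem RMod.good (hA : EGA4.IsExcellent A) (hdim : ringKrullDim A = 2) (h : RMod f) {x : X} (hx : Sing X x) :
    haveI := h.noetherian; Good (X.presheaf.stalk x) := by
  haveI := h.noetherian
  haveI := (h.normal x).1
  haveI := (h.normal x).2
  exact good_of_rational (h.excellent_stalk hA x) (h.sing_dim hdim hx) (h.rat x hx) hx

end Groth.L05.PtChain
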