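import Groth.Prelude.Def_FEt
import Mathlib.AlgebraicGeometry.FunctionField

/-! The generic point lies in the punctured spectrum. -/

set_option autoImplicit false
set_option backward.isDefEq.respectTransparency false

universe u

open CategoryTheory AlgebraicGeometry TopologicalSpace

noncomputable section

namespace Groth.L05.PtChain

theorem genericPoint_mem_punctured (A : Type u) [CommRing A] [IsDomain A] [IsLocalRing A]
    (hdim : ringKrullDim A = 2) : genericPoint (Spec (CommRingCat.of A)) ∈ FEt.puncturedSpec A := by
  intro hh
  have hu : ∀ y : Spec (CommRingCat.of A), y = IsLocalRing.closedPoint A := fun y =>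
    (genericPoint_specializes y).mem_closed (IsLocalRing.isClosed_singleton_closedPoint A) hh
  haveI : Subsingleton (PrimeSpectrum A) := ⟨fun a b => (hu a).trans (hu b).symm⟩
  have h1 : ringKrullDim A = 0 :=
    le_antisymm Order.krullDim_nonpos_of_subsingleton ringKrullDim_nonneg_of_nontrivial
  rw [hdim] at h1
  exact absurd h1 (by decide)

end Groth.L05.PtChain
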