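import Groth.Agent.L28.CplUnram.Basic
import Groth.Agent.L06.GRingFT
import Groth.Agent.L18.NormalExtend
import Groth.Prelude.Def_Curv2
import Groth.Prelude.Def_EGA4b

/-! Quasi-excellent normal schemes: open regular locus, normal completions. -/

set_option autoImplicit false
set_option maxSynthPendingDepth 5
set_option linter.style.haveILetI false
set_option backward.isDefEq.respectTransparency false
set_option backward.isDefEq.respectTransparency.types false
set_option maxHeartbeats 800000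

universe u

open CategoryTheory CategoryTheory.Limits AlgebraicGeometry TopologicalSpace IsLocalRing

noncomputable section

namespace Groth.L05.PtChain

/-- The regular locus of a scheme covered by J-2 charts is open. -/
theorem isOpen_regular_of_nhds {X : Scheme.{u}}
    (hJ : ∀ x : X, ∃ U : X.affineOpens, x ∈ U.1 ∧ EGA4.IsJ2 Γ(X, U)) :
    IsOpen {x : X | IsRegularLocalRing (X.presheaf.stalk x)} := by
  rw [isOpen_iff_forall_mem_open]
  intro x hx
  obtain ⟨V, hxW, hJV⟩ := hJ x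
  have h1 : IsOpen (EGA4.regLocus Γ(X, V.1)) := hJV Γ(X, V.1) inferInstance
  have h2 : ∀ (z : X) (hz : z ∈ V.1), V.2.primeIdealOf ⟨z, hz⟩ ∈ EGA4.regLocus Γ(X, V.1) ↔
      IsRegularLocalRing (X.presheaf.stalk z) := by
    intro z hz
    letI := X.presheaf.algebra_section_stalk ⟨z, hz⟩
    haveI := V.2.isLocalization_stalk ⟨z, hz⟩
    let e : Localization.AtPrime (V.2.primeIdealOf ⟨z, hz⟩).asIdeal ≃+* X.presheaf.stalk z :=
      (IsLocalization.algEquiv (V.2.primeIdealOf ⟨z, hz⟩).asIdeal.primeCompl _ _).toRingEquiv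
    exact ⟨fun hr => haveI : IsRegularLocalRing (Localization.AtPrime (V.2.primeIdealOf ⟨z, hz⟩).asIdeal) := hr
      IsRegularLocalRing.of_ringEquiv e, fun hr => haveI := hr; IsRegularLocalRing.of_ringEquiv e.symm⟩
  refine ⟨V.2.fromSpec '' EGA4.regLocus Γ(X, V.1), ?_, V.2.fromSpec.isOpenEmbedding.isOpenMap _ h1,
    ⟨_, (h2 x hxW).2 hx, V.2.fromSpec_primeIdealOf ⟨x, hxW⟩⟩⟩
  rintro _ ⟨p, hp, rfl⟩
  have hpV : V.2.fromSpec p ∈ V.1 := by
    rw [← SetLike.mem_coe, ← V.2.range_fromSpec]; exact ⟨p, rfl⟩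
  have he : V.2.primeIdealOf ⟨_, hpV⟩ = p :=
    V.2.fromSpec.isOpenEmbedding.injective (V.2.fromSpec_primeIdealOf ⟨_, hpV⟩)
  exact (h2 _ hpV).1 (he.symm ▸ hp)

/-- The completion of a normal local G-ring is a normal domain. -/
theorem completion_normal_of_gRing (T : Type u) [CommRing T] [IsDomain T] [IsLocalRing T] [IsNoetherianRing T]
    [IsIntegrallyClosed T] (hG : CAlg.IsGRing T) :
    IsDomain (Curv2.cpl T) ∧ IsIntegrallyClosed (Curv2.cpl T) := by
  have hgn := Groth.L05.Henselization.FormalDomain.hasGeomNormalFormalFibres_of_gRing hG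
  have hunib : CAlg2.IsUnibranch T := by
    have hnil : nilradical T = ⊥ := nilradical_eq_zero T
    let e : CAlg2.red T ≃+* T := (Ideal.quotEquivOfEq hnil).trans (RingEquiv.quotientBot T)
    haveI hd : IsDomain (CAlg2.red T) := e.toMulEquiv.isDomain
    haveI : IsIntegrallyClosed (CAlg2.red T) := IsIntegrallyClosed.of_equiv e.symm
    haveI : IsLocalRing (CAlg2.red T) := IsLocalRing.of_surjective' e.symm.toRingHom e.symm.surjective
    refine ⟨hd, ?_⟩
    exact IsLocalRing.of_surjective' (algebraMap (CAlg2.red T) (CAlg2.normRed T)) fun x => by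
      obtain ⟨y, hy⟩ := IsIntegrallyClosed.isIntegral_iff.1 x.2
      exact ⟨y, Subtype.ext hy⟩
  haveI hdom : IsDomain (EGA4.Cpl T) := (Groth.Agent.S2684.result T hgn).1.2 hunib
  have hN : EGA4.IsNormalRing T := fun p _ => ⟨inferInstance,
    isIntegrallyClosed_of_isLocalization (Localization.AtPrime p) p.primeCompl p.primeCompl_le_nonZeroDivisors⟩
  have h2 : IsIntegrallyClosed (EGA4.Cpl T) := IsIntegrallyClosed.of_localization_maximal fun p _ _ =>
    ((Groth.Agent.S2644.result T hgn).1 hN p).2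
  exact ⟨hdom, h2⟩

/-- The regular locus of a scheme with J-2 charts is open. -/
theorem isOpen_regular_of_j2 {X : Scheme.{u}} (hJ : ∀ U : X.affineOpens, EGA4.IsJ2 Γ(X, U)) :
    IsOpen {x : X | IsRegularLocalRing (X.presheaf.stalk x)} :=
  isOpen_regular_of_nhds fun x => by
    obtain ⟨W, hW, hxW, -⟩ := exists_isAffineOpen_mem_and_subset (x := x) (U := (⊤ : X.Opens)) trivial
    exact ⟨⟨W, hW⟩, hxW, hJ _⟩

/-- The stalk at a point of a G-ring chart is a G-ring. -/
theorem gRing_stalk_of_nhd {X : Scheme.{u}} (U : X.affineOpens) {x : X} (hx : x ∈ U.1)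
    (hG : CAlg.IsGRing Γ(X, U)) : CAlg.IsGRing (X.presheaf.stalk x) := by
  letI := X.presheaf.algebra_section_stalk ⟨x, hx⟩
  haveI := U.2.isLocalization_stalk ⟨x, hx⟩
  exact Groth.L06.GRingFT.isGRing_localization (U.2.primeIdealOf ⟨x, hx⟩).asIdeal.primeCompl
    (X.presheaf.stalk x) hG

/-- Excellent charts of a scheme of finite type over an excellent one. -/
theorem exists_excellent_nhd {Z S : Scheme.{u}} (f : Z ⟶ S) [LocallyOfFiniteType f]
    (hS : ∀ U : S.affineOpens, EGA4.IsExcellent Γ(S, U)) (z : Z) :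
    ∃ V : Z.affineOpens, z ∈ V.1 ∧ EGA4.IsExcellent Γ(Z, V) := by
  obtain ⟨W, hW, hzW, -⟩ := exists_isAffineOpen_mem_and_subset (U := (⊤ : S.Opens)) (x := f z) trivial
  obtain ⟨V, hV, hzV, hVW⟩ := exists_isAffineOpen_mem_and_subset (U := f ⁻¹ᵁ W) (x := z) hzW
  letI := (f.appLE W V hVW).hom.toAlgebra
  haveI : Algebra.FiniteType Γ(S, W) Γ(Z, V) := LocallyOfFiniteType.finiteType_appLE f hW hV hVW
  exact ⟨⟨V, hV⟩, hzV, Groth.Agent.S2651.result Γ(S, W) (hS ⟨W, hW⟩) Γ(Z, V)⟩

/-- Stalks of a scheme with G-ring charts are G-rings. -/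
theorem gRing_stalk {X : Scheme.{u}} (hG : ∀ U : X.affineOpens, CAlg.IsGRing Γ(X, U)) (x : X) :
    CAlg.IsGRing (X.presheaf.stalk x) := by
  obtain ⟨W, hW, hxW, -⟩ := exists_isAffineOpen_mem_and_subset (x := x) (U := (⊤ : X.Opens)) trivial
  letI := X.presheaf.algebra_section_stalk ⟨x, hxW⟩
  haveI := hW.isLocalization_stalk ⟨x, hxW⟩
  exact Groth.L06.GRingFT.isGRing_localization (hW.primeIdealOf ⟨x, hxW⟩).asIdeal.primeCompl
    (X.presheaf.stalk x) (hG ⟨W, hW⟩)

end Groth.L05.PtChain
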