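import Groth.Agent.L05.PtChain.Geo.Descend
import Groth.Agent.L05.PtSeq.Dominate
import Groth.Agent.L05.ModelContr.Main
import Groth.Agent.L06.FibTrdeg
import Groth.Agent.L05.Point.UnramFlat
import Groth.Agent.S4366

/-! Resolution of finitely many two dimensional singular points by one blow-up. -/

set_option autoImplicit false
set_option maxSynthPendingDepth 5
set_option linter.style.haveILetI false
set_option backward.isDefEq.respectTransparency false
set_option backward.isDefEq.respectTransparency.types false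
set_option maxHeartbeats 800000

universe u

open CategoryTheory CategoryTheory.Limits AlgebraicGeometry TopologicalSpace IsLocalRing
open Groth.L05.PtSeq

noncomputable section

namespace Groth.L05.PtChain

variable {X : Scheme.{u}}

/-- An ideal of the local ring at any point containing a power of the maximal ideal is the stalk of an
ideal sheaf supported on the closure of the point. -/
theorem exists_ideal_of_stalk' [AlgebraicGeometry.IsNoetherian X] (t : X)
    (Q : Ideal (X.presheaf.stalk t)) {n : ℕ} (hn : maximalIdeal (X.presheaf.stalk t) ^ n ≤ Q) :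
    ∃ J : X.IdealSheafData, (J.support : Set X) ⊆ closure {t} ∧ stI J t = Q := by
  let φ : X.presheaf.stalk t ⟶ CommRingCat.of (X.presheaf.stalk t ⧸ Q) :=
    CommRingCat.ofHom (Ideal.Quotient.mk Q)
  let j : Spec (CommRingCat.of (X.presheaf.stalk t ⧸ Q)) ⟶ X := Spec.map φ ≫ X.fromSpecStalk t
  have hj : ∀ x, j x = t := fun x => by
    have h1 : Spec.map φ x = closedPoint (X.presheaf.stalk t) := by
      apply PrimeSpectrum.ext
      have hp : (Spec.map φ x).asIdeal.IsPrime := (Spec.map φ x).isPrime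
      refine ((maximalIdeal.isMaximal _).eq_of_le hp.ne_top (hp.le_of_pow_le (hn.trans fun a ha => ?_))).symm
      show φ a ∈ x.asIdeal
      rw [show φ a = 0 from Ideal.Quotient.eq_zero_iff_mem.2 ha]
      exact zero_mem _
    rw [show j x = X.fromSpecStalk t (Spec.map φ x) from rfl, h1]
    exact Scheme.fromSpecStalk_closedPoint
  refine ⟨j.ker, ?_, ?_⟩
  · rw [Scheme.Hom.support_ker]
    exact closure_mono (by rintro _ ⟨x, rfl⟩; exact hj x)
  obtain ⟨V, htV⟩ := exists_affine t
  have hpre : j ⁻¹ᵁ V.1 = ⊤ := top_le_iff.1 fun x _ => show j x ∈ V.1 from (hj x).symm ▸ htV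
  have key : j.appLE V.1 ⊤ hpre.ge = X.presheaf.germ V.1 t htV ≫ φ ≫ (Scheme.ΓSpecIso _).inv := by
    rw [Scheme.Hom.comp_appLE, Scheme.fromSpecStalk_app htV]
    simp only [Category.assoc, Scheme.Hom.map_appLE]
    rw [Scheme.ΓSpecIso_inv_naturality]
    simp only [Scheme.Hom.appTop, Scheme.Hom.app_eq_appLE]
    rfl
  rw [stI_eq _ V htV, Groth.L22.Div.stalkIdeal, Scheme.Hom.ker_apply]
  letI : Algebra Γ(X, V.1) (X.presheaf.stalk t) := (X.presheaf.germ V.1 t htV).hom.toAlgebra
  haveI : IsLocalization.AtPrime (X.presheaf.stalk t) (V.2.primeIdealOf ⟨t, htV⟩).asIdeal :=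
    V.2.isLocalization_stalk ⟨t, htV⟩
  refine Eq.trans (congrArg _ ?_) (IsLocalization.map_under (V.2.primeIdealOf ⟨t, htV⟩).asIdeal.primeCompl (X.presheaf.stalk t) Q)
  ext a
  rw [RingHom.mem_ker]
  show j.app V.1 a = 0 ↔ X.presheaf.germ V.1 t htV a ∈ Q
  let r := (Spec (CommRingCat.of (X.presheaf.stalk t ⧸ Q))).presheaf.map (homOfLE hpre.ge).op
  haveI : IsIso r := by
    show IsIso ((Spec _).presheaf.map (homOfLE hpre.ge).op)
    rw [show homOfLE hpre.ge = eqToHom hpre.symm from Subsingleton.elim _ _]; infer_instance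
  rw [← map_eq_zero_iff r.hom (ConcreteCategory.bijective_of_isIso r).1]
  change j.appLE V.1 ⊤ hpre.ge a = 0 ↔ _
  rw [key]
  show (Scheme.ΓSpecIso _).inv (φ (X.presheaf.germ V.1 t htV a)) = 0 ↔ _
  rw [map_eq_zero_iff _ (ConcreteCategory.bijective_of_isIso (Scheme.ΓSpecIso _).inv).1]
  exact Ideal.Quotient.eq_zero_iff_mem

theorem eq_closedPoint_of_eq (t : X) {P : Spec (X.presheaf.stalk t)} (h : X.fromSpecStalk t P = t) :
    P = closedPoint (X.presheaf.stalk t) :=
  (X.fromSpecStalk t).isEmbedding.injective (h.trans Scheme.fromSpecStalk_closedPoint.symm)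

theorem specializes_fromSpecStalk (t : X) (P : Spec (X.presheaf.stalk t)) : X.fromSpecStalk t P ⤳ t := by
  have hmem : X.fromSpecStalk t P ∈ Set.range (X.fromSpecStalk t) := ⟨P, rfl⟩
  rw [Scheme.range_fromSpecStalk] at hmem
  exact hmem

/-- An ideal sheaf on the spectrum of a local ring supported at the closed point extends. -/
theorem exists_ideal_at [AlgebraicGeometry.IsNoetherian X] (t : X) (I : (Spec (X.presheaf.stalk t)).IdealSheafData)
    (hI : (I.support : Set (Spec (X.presheaf.stalk t))) ⊆ {closedPoint (X.presheaf.stalk t)}) :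
    ∃ J : X.IdealSheafData, (J.support : Set X) ⊆ closure {t} ∧ J.comap (X.fromSpecStalk t) = I := by
  let c : Spec (X.presheaf.stalk t) := closedPoint (X.presheaf.stalk t)
  have hc : IsClosed ({c} : Set (Spec (X.presheaf.stalk t))) := isClosed_singleton_closedPoint _
  haveI : IsNoetherianRing (X.presheaf.stalk t) := Groth.L14.RegImmStalk.isNoetherianRing_stalk' (X := X) t
  haveI : IsLocallyNoetherian (Spec (X.presheaf.stalk t)) := inferInstance
  obtain ⟨n, hn⟩ := exists_pow_le_stI I hc fun w hw _ => hI hw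
  have hct : X.fromSpecStalk t c = t := Scheme.fromSpecStalk_closedPoint
  obtain ⟨J, hs, hJ⟩ := exists_ideal_of_stalk' (X.fromSpecStalk t c)
    ((stI I c).comap ((X.fromSpecStalk t).stalkMap c).hom) (n := n)
    (Ideal.map_le_iff_le_comap.1 (by
      rw [Ideal.map_pow]
      exact (Ideal.pow_right_mono (IsLocalRing.map_maximalIdeal_le _) n).trans hn))
  rw [hct] at hs
  refine ⟨J, hs, ext_stI fun P => ?_⟩
  rw [stI_comap]
  by_cases hP : P = c
  · subst hP
    rw [hJ, Ideal.map_comap_of_surjective _ ((X.fromSpecStalk t).stalkMap_surjective _)]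
  · rw [(stI_eq_top_iff J _).2 fun h => hP ?_, Ideal.map_top, (stI_eq_top_iff I P).2 fun h => hP (hI h)]
    exact eq_closedPoint_of_eq t
      ((specializes_fromSpecStalk t P).antisymm (specializes_iff_mem_closure.2 (hs h))).eq

/-- A blow-up is an isomorphism away from its centre. -/
theorem isIso_restrict_of_disjoint {X' : Scheme.{u}} {b : X' ⟶ X} {I : X.IdealSheafData} (hb : BlowUp.IsBlowUp b I)
    (U : X.Opens) (hU : Disjoint (I.support : Set X) U) : IsIso (b ∣_ U) := by
  have hsq := isPullback_morphismRestrict b U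
  have hb1 := Groth.L13.BU.isBlowUp_pullback U.ι hb
  have htop : I.comap U.ι = ⊤ := by
    rw [← Scheme.IdealSheafData.support_eq_bot_iff]
    refine Closeds.ext (Set.eq_empty_of_forall_notMem fun z hz => ?_)
    rw [Scheme.IdealSheafData.support_comap] at hz
    exact Set.disjoint_left.1 hU hz z.2
  rw [htop] at hb1
  obtain ⟨l, hl, -⟩ := hb1.2 (U : Scheme.{u}) (𝟙 _) Groth.L13.Nagata.isBlowUp_id_top.1
  haveI := Groth.L13.BU.isIso_of_blowUps hb1 Groth.L13.Nagata.isBlowUp_id_top l hl
  haveI : IsIso (pullback.fst U.ι b) := by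
    haveI : IsIso (l ≫ pullback.fst U.ι b) := by rw [hl]; infer_instance
    exact IsIso.of_isIso_comp_left l (pullback.fst U.ι b)
  have h : hsq.isoPullback.hom ≫ pullback.fst U.ι b = b ∣_ U := hsq.isoPullback_hom_fst
  rw [← h]
  infer_instance

/-- Finitely many two dimensional points with normal completions are resolved by one blow-up. -/
theorem exists_resolve_points [AlgebraicGeometry.IsNoetherian X] (T : Set X) (hTf : T.Finite)
    (hdim : ∀ t ∈ T, ringKrullDim (X.presheaf.stalk t) = 2)
    (hcpl : ∀ t ∈ T, IsDomain (Curv2.cpl (X.presheaf.stalk t)) ∧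
      IsIntegrallyClosed (Curv2.cpl (X.presheaf.stalk t))) :
    ∃ 𝓘 : X.IdealSheafData, (𝓘.support : Set X) ⊆ closure T ∧
      ∀ (X' : Scheme.{u}) (b : X' ⟶ X), BlowUp.IsBlowUp b 𝓘 →
        ∀ x' : X', b x' ∈ T → IsRegularLocalRing (X'.presheaf.stalk x') := by
  classical
  haveI := hTf.to_subtype
  haveI := Fintype.ofFinite T
  have hloc : ∀ t : T, ∃ (I : (Spec (X.presheaf.stalk t.1)).IdealSheafData) (J : X.IdealSheafData)
      (W : Scheme.{u}) (c : W ⟶ Spec (X.presheaf.stalk t.1)), (J.support : Set X) ⊆ closure {t.1} ∧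
      J.comap (X.fromSpecStalk t.1) = I ∧ BlowUp.IsBlowUp c I ∧
      ∀ w : W, IsRegularLocalRing (W.presheaf.stalk w) := by
    intro t
    haveI : IsNoetherianRing (X.presheaf.stalk t.1) := Groth.L14.RegImmStalk.isNoetherianRing_stalk' (X := X) t.1
    haveI := (hcpl t.1 t.2).1
    haveI := (hcpl t.1 t.2).2
    obtain ⟨I, W, c, hI, hc, -, hreg⟩ := exists_admissible_local (X.presheaf.stalk t.1) (hdim t.1 t.2)
    have hs : (I.support : Set (Spec (X.presheaf.stalk t.1))) ⊆ {closedPoint (X.presheaf.stalk t.1)} := fun z hz => by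
      by_contra hne
      exact Set.disjoint_left.1 hI.2 hz hne
    obtain ⟨J, hJs, hJ⟩ := exists_ideal_at t.1 I hs
    exact ⟨I, J, W, c, hJs, hJ, hc, hreg⟩
  choose I J W c hJs hJI hc hreg using hloc
  refine ⟨∏ t, J t, fun z hz => ?_, fun X' b hb x' hx' => ?_⟩
  · by_contra hzT
    exact (stI_eq_top_iff _ z).1 (stI_prod_eq_top _ J fun t _ => (stI_eq_top_iff _ z).2 fun h =>
      hzT (closure_mono (Set.singleton_subset_iff.2 t.2) (hJs t h))) hz
  let t : T := ⟨b x', hx'⟩
  have hcomap : (∏ s, J s).comap (X.fromSpecStalk t.1) = I t := by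
    rw [← hJI t]
    refine ext_stI fun P => ?_
    rw [stI_comap, stI_comap]
    congr 1
    rw [Groth.L05.ModelContr.stI_prod, ← Finset.mul_prod_erase _ _ (Finset.mem_univ t),
      Finset.prod_eq_one, mul_one]
    intro s hs
    rw [Ideal.one_eq_top, stI_eq_top_iff]
    intro h
    have h1 : s.1 ⤳ t.1 := (specializes_iff_mem_closure.2 (hJs s h)).trans (specializes_fromSpecStalk t.1 P)
    have h2 := Groth.L06.FibTrdeg.ringKrullDim_stalk_lt h1 fun e => (Finset.mem_erase.1 hs).1 (Subtype.ext e)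
    rw [hdim s.1 s.2, hdim t.1 t.2] at h2
    exact lt_irrefl _ h2
  haveI : Flat (X.fromSpecStalk t.1) := Groth.L05.Point.flat_fromSpecStalk t.1
  have hb1 := Groth.L13.BU.isBlowUp_pullback (X.fromSpecStalk t.1) hb
  rw [hcomap] at hb1
  obtain ⟨e, he, -⟩ := hb1.2 (W t) (c t) (hc t).1
  haveI := Groth.L13.BU.isIso_of_blowUps hb1 (hc t) e he
  obtain ⟨w, -, hw⟩ := Scheme.Pullback.exists_preimage_pullback (f := X.fromSpecStalk t.1) (g := b)
    (closedPoint (X.presheaf.stalk t.1)) x' Scheme.fromSpecStalk_closedPoint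
  let σ := pullbackSymmetry (X.fromSpecStalk t.1) b
  have hσ : pullback.fst b (X.fromSpecStalk t.1) (σ.hom w) = x' := by
    rw [← Scheme.Hom.comp_apply, pullbackSymmetry_hom_comp_fst]; exact hw
  haveI := Groth.Agent.S4366.result b t.1 (σ.hom w)
  rw [← hσ]
  haveI : IsRegularLocalRing ((pullback (X.fromSpecStalk t.1) b).presheaf.stalk w) := by
    obtain ⟨w', rfl⟩ := e.surjective w
    haveI := hreg t w'
    exact IsRegularLocalRing.of_ringEquiv (asIso (e.stalkMap w')).commRingCatIsoToRingEquiv.symm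
  haveI : IsRegularLocalRing ((pullback b (X.fromSpecStalk t.1)).presheaf.stalk (σ.hom w)) :=
    IsRegularLocalRing.of_ringEquiv (asIso (σ.hom.stalkMap w)).commRingCatIsoToRingEquiv.symm
  exact IsRegularLocalRing.of_ringEquiv
    (asIso ((pullback.fst b (X.fromSpecStalk t.1)).stalkMap (σ.hom w))).commRingCatIsoToRingEquiv.symm

end Groth.L05.PtChain
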