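import Groth.Agent.L05.PtChain.Geo.ModelMain
import Groth.Agent.L05.PtChain.Geo.ResolvePts
import Groth.Agent.L05.PtSeq.DomData
import Groth.Agent.L13.Nagata.Affine
import Groth.Agent.L05.Models.ExtendMap
import Groth.Agent.L16.Blow.Integral
import Groth.Agent.L08.Cube.SmoothStalk

/-! Regular proper models of smooth proper curves. -/

set_option autoImplicit false
set_option maxSynthPendingDepth 5
set_option linter.style.haveILetI false
set_option backward.isDefEq.respectTransparency false
set_option backward.isDefEq.respectTransparency.types false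
set_option maxHeartbeats 800000

universe u

open CategoryTheory CategoryTheory.Limits AlgebraicGeometry TopologicalSpace IsLocalRing
open Groth.L05.MinModel (gen)

noncomputable section

namespace Groth.L05.PtChain

variable {R : Type u} [CommRing R] [IsDomain R] [IsDiscreteValuationRing R]
  {C X : Scheme.{u}} {f : C ⟶ Spec (CommRingCat.of (FractionRing R))} {p : X ⟶ Spec (CommRingCat.of R)}
  {g : C ⟶ X}

/-- A smooth scheme over a field is geometrically normal. -/
theorem geomNormal_of_smooth [Smooth f] (K' : Type u) [Field K'] [Algebra (FractionRing R) K'] :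
    Pi1.IsNormalScheme (pullback f (Spec.map (CommRingCat.ofHom (algebraMap (FractionRing R) K')))) := fun y => by
  haveI : Smooth (pullback.snd f (Spec.map (CommRingCat.ofHom (algebraMap (FractionRing R) K')))) :=
    MorphismProperty.pullback_snd _ _ inferInstance
  haveI := Groth.L08.Cube.isRegularLocalRing_of_smooth
    (pullback.snd f (Spec.map (CommRingCat.ofHom (algebraMap (FractionRing R) K')))) y
  exact ⟨Groth.L01.isDomain_of_regular _, Groth.L03.RegularNormal.isIntegrallyClosed _⟩

/-- An integral proper scheme over the fraction field has an integral proper model. -/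
theorem exists_proper_model [IsIntegral C] [IsProper f] :
    ∃ (X : Scheme.{u}) (p : X ⟶ Spec (CommRingCat.of R)) (g : C ⟶ X), IsIntegral X ∧ IsProper p ∧
      IsPullback g f p (gen R) := by
  haveI := Groth.L05.MinModel.isOpenImmersion_gen (R := R)
  haveI : QuasiCompact (gen R) := inferInstance
  haveI : LocallyOfFiniteType (f ≫ gen R) := inferInstance
  obtain ⟨Y, j, q, hj, -, hq, hjq⟩ := Groth.L13.Nagata.exists_compactification (f ≫ gen R)
  haveI := hj; haveI := hq
  obtain ⟨Z, ι, hZ, hι, hr, hgenZ⟩ := Groth.L05.PtSeq.exists_closure_subscheme (j (genericPoint C))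
  haveI := hZ; haveI := hι
  have hsub : Set.range j ⊆ Set.range ι := by
    rw [hr]
    rintro _ ⟨c, rfl⟩
    exact ((genericPoint_specializes c).map j.continuous).mem_closure
  haveI : Surjective (pullback.fst j ι) := ⟨fun c => by
    obtain ⟨z, hz⟩ := hsub ⟨c, rfl⟩
    obtain ⟨w, hw, -⟩ := Scheme.Pullback.exists_preimage_pullback (f := j) (g := ι) c z hz.symm
    exact ⟨w, hw⟩⟩
  haveI : IsIso (pullback.fst j ι) := isIso_of_isClosedImmersion_of_surjective _
  let l : C ⟶ Z := inv (pullback.fst j ι) ≫ pullback.snd j ι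
  haveI : IsOpenImmersion l := inferInstance
  have hl : l ≫ ι = j := by
    show (inv (pullback.fst j ι) ≫ pullback.snd j ι) ≫ ι = j
    rw [Category.assoc, ← pullback.condition, IsIso.inv_hom_id_assoc]
  have hlp : l ≫ ι ≫ q = f ≫ gen R := by rw [reassoc_of% hl, hjq]
  refine ⟨Z, ι ≫ q, l, hZ, inferInstance, ?_⟩
  let k := pullback.lift l f hlp
  let a := pullback.fst (ι ≫ q) (gen R)
  have hka : k ≫ a = l := pullback.lift_fst _ _ _
  haveI : IsOpenImmersion a := inferInstance
  haveI : IsOpenImmersion k := by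
    haveI : IsOpenImmersion (k ≫ a) := by rw [hka]; infer_instance
    exact IsOpenImmersion.of_comp k a
  haveI : IsProper (k ≫ pullback.snd (ι ≫ q) (gen R)) := by rw [pullback.lift_snd]; infer_instance
  haveI : IsProper k := IsProper.of_comp k (pullback.snd (ι ≫ q) (gen R))
  haveI : Surjective k := ⟨fun z => by
    have hη : a (k (genericPoint C)) = genericPoint Z := by
      rw [← Scheme.Hom.comp_apply, hka]
      exact genericPoint_eq_of_isOpenImmersion l
    have hs : k (genericPoint C) ⤳ z := by
      rw [← a.isOpenEmbedding.isInducing.specializes_iff, hη]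
      exact genericPoint_specializes _
    exact hs.mem_closed k.isClosedMap.isClosed_range ⟨_, rfl⟩⟩
  haveI : IsIso k := by
    haveI : Epi k.base := (TopCat.epi_iff_surjective _).2 k.surjective
    exact IsOpenImmersion.isIso k
  exact IsPullback.of_iso_pullback ⟨hlp⟩ (asIso k) hka (pullback.lift_snd _ _ _)

/-- The singular points of a normal proper model are finitely many points of dimension two. -/
theorem finite_sing_of_model [IsIntegral X] [IsIntegral C] [Smooth f] [IsProper p] [Flat p]
    (hn : Pi1.IsNormalScheme X) (hC : topologicalKrullDim C = 1) (hg : IsPullback g f p (gen R)) :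
    {x : X | Sing X x}.Finite ∧ ∀ x : X, Sing X x → ringKrullDim (X.presheaf.stalk x) = 2 ∧
      IsClosed ({x} : Set X) ∧ p x = closedPoint R := by
  haveI : IsLocallyNoetherian X := LocallyOfFiniteType.isLocallyNoetherian p
  have hd : topologicalKrullDim X ≤ 2 := Groth.L05.Models.model_dim_le_two hC hg
  have hspec : ∀ x : X, Sing X x → p x = closedPoint R := by
    intro x hx
    by_contra hne
    obtain ⟨c, rfl⟩ : x ∈ Set.range g := by rw [Groth.L05.MinModel.range_model hg]; exact hne
    haveI := Groth.L05.MinModel.isOpenImmersion_model hg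
    haveI := Groth.L08.Cube.isRegularLocalRing_of_smooth f c
    exact hx (IsRegularLocalRing.of_ringEquiv (asIso (g.stalkMap c)).commRingCatIsoToRingEquiv.symm)
  have hdim : ∀ x : X, Sing X x → ringKrullDim (X.presheaf.stalk x) = 2 := by
    intro x hx
    haveI := (hn x).1
    haveI := (hn x).2
    haveI : IsNoetherianRing (X.presheaf.stalk x) := Groth.L14.RegImmStalk.isNoetherianRing_stalk' (X := X) x
    exact le_antisymm ((Groth.L13.ModFibre.ringKrullDim_stalk_le_topologicalKrullDim _).trans hd)
      (not_not.1 fun hlt => hx (Groth.L06.NormalAscent.regular_of_normal_dim_le_one (dim_le_one_of_lt_two hlt)))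
  refine ⟨?_, fun x hx => ⟨hdim x hx, closure_subset_iff_isClosed.1 fun d hd' =>
    Groth.L05.RelMinExists.eq_of_dim_two_le hd (hdim x hx).ge (specializes_iff_mem_closure.2 hd'), hspec x hx⟩⟩
  haveI : IsNoetherianRing (Curv2.cpl R) := Groth.L01.AnalUnram.isNoetherianRing_completion R
  haveI : IsProper (Curv2.bcCplSnd R p) := MorphismProperty.pullback_snd (P := @IsProper) _ _ inferInstance
  let W := Curv2.bcCpl R p
  haveI : IsLocallyNoetherian W := LocallyOfFiniteType.isLocallyNoetherian (Curv2.bcCplSnd R p)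
  haveI : CompactSpace W := QuasiCompact.compactSpace_of_compactSpace (Curv2.bcCplSnd R p)
  haveI : AlgebraicGeometry.IsNoetherian W := {}
  haveI := Groth.L05.PtChain.isAdicComplete_cpl R
  have hopen := isOpen_regular_of_nhds (X := W) fun w => by
    obtain ⟨U, hU, hUe⟩ := exists_excellent_nhd (Curv2.bcCplSnd R p)
      (excellent_affineOpens_spec (Groth.Agent.S2652.result (Curv2.cpl R))) w
    exact ⟨U, hU, hUe.2.2.2⟩
  let Zs : Set W := {w | IsRegularLocalRing (W.presheaf.stalk w)}ᶜ ∩
    (Curv2.bcCplSnd R p) ⁻¹' {closedPoint (Curv2.cpl R)}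
  have hZs : IsClosed Zs := hopen.isClosed_compl.inter
    ((IsLocalRing.isClosed_singleton_closedPoint _).preimage (Curv2.bcCplSnd R p).continuous)
  have hZd : ∀ w ∈ Zs, ringKrullDim (W.presheaf.stalk w) = 2 := by
    intro w hw
    have hq : p ((Curv2.bcCplFst R p) w) = closedPoint R := Groth.L13.CplRegular.apply_fst_eq_closedPoint p hw.2
    haveI : IsNoetherianRing (X.presheaf.stalk ((Curv2.bcCplFst R p) w)) :=
      Groth.L14.RegImmStalk.isNoetherianRing_stalk' (X := X) _
    haveI : IsNoetherianRing (W.presheaf.stalk w) := Groth.L14.RegImmStalk.isNoetherianRing_stalk' (X := W) w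
    obtain ⟨e⟩ := cpl_equiv_stalk p w hq
    have h1 := ringKrullDim_eq_of_ringEquiv e
    change ringKrullDim (EGA4.Cpl _) = ringKrullDim (EGA4.Cpl _) at h1
    rw [Groth.L01.CompletionReg.ringKrullDim_completion, Groth.L01.CompletionReg.ringKrullDim_completion] at h1
    rw [← h1]
    exact hdim _ fun hreg => hw.1 ((Groth.L13.CplRegular.regular_iff p w hq).2 hreg)
  have hfin : Zs.Finite := Groth.L18.Curve.finite_of_forall_isClosed hZs fun w hw =>
    closure_subset_iff_isClosed.1 fun d hd' => by
      by_contra hne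
      have hs := specializes_iff_mem_closure.2 hd'
      have h1 := Groth.L06.FibTrdeg.ringKrullDim_stalk_lt hs fun e => hne e.symm
      rw [hZd w hw, hZd d (hs.mem_closed hZs hw)] at h1
      exact lt_irrefl _ h1
  refine (hfin.image (Curv2.bcCplFst R p)).subset fun x hx => ?_
  obtain ⟨w, hw, hw2⟩ := Scheme.Pullback.exists_preimage_pullback (f := p)
    (g := Spec.map (CommRingCat.ofHom (algebraMap R (Curv2.cpl R)))) x (closedPoint (Curv2.cpl R))
    ((hspec x hx).trans (IsLocalRing.comap_closedPoint (algebraMap R (Curv2.cpl R))).symm)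
  have hw' : (Curv2.bcCplFst R p) w = x := hw
  subst hw'
  exact ⟨w, ⟨fun hreg => hx ((Groth.L13.CplRegular.regular_iff p w (hspec _ hx)).1 hreg), hw2⟩, rfl⟩

/-- A smooth proper curve has a regular proper model. -/
theorem exists_regularProperModel (hC : Curve.IsSmoothProperCurve (FractionRing R) C f) :
    ∃ (X : Scheme.{u}) (p : X ⟶ Spec (CommRingCat.of R)), Models.IsRegularProperModel R X p C f := by
  obtain ⟨hfp, hfs, hCint, hdimC⟩ := hC
  haveI := hfp; haveI := hfs; haveI := hCint
  obtain ⟨X₀, p₀, g₀, hX₀, hp₀, hg₀⟩ := exists_proper_model (f := f) (R := R)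
  haveI := hX₀; haveI := hp₀
  haveI : IsLocallyNoetherian X₀ := LocallyOfFiniteType.isLocallyNoetherian p₀
  obtain ⟨hfin, hcpl⟩ := normalization_of_model hg₀ (fun K _ _ => geomNormal_of_smooth (f := f) K)
  haveI := hfin
  obtain ⟨hint, hn, -⟩ := Groth.Agent.S2351.result X₀
  haveI := hint
  obtain ⟨g₁, -, hg₁⟩ := exists_normalized_model hg₀ (normal_generic (fun K _ _ => geomNormal_of_smooth (f := f) K))
  let Xn := Curv2.normalization X₀
  let pn : Xn ⟶ Spec (CommRingCat.of R) := Curv2.normalizationι X₀ ≫ p₀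
  haveI : IsProper pn := inferInstance
  haveI : IsLocallyNoetherian Xn := LocallyOfFiniteType.isLocallyNoetherian pn
  haveI : CompactSpace Xn := QuasiCompact.compactSpace_of_compactSpace pn
  haveI : AlgebraicGeometry.IsNoetherian Xn := {}
  haveI : Flat pn := Groth.L05.MinModel.flat_model hg₁
  obtain ⟨hTf, hT⟩ := finite_sing_of_model hn hdimC hg₁
  let T : Set Xn := {x | Sing Xn x}
  have hTc : IsClosed T := by
    rw [← Set.biUnion_of_singleton T]
    exact hTf.isClosed_biUnion fun y hy => (hT y hy).2.1
  obtain ⟨𝓘, hsupp, hres⟩ := exists_resolve_points T hTf (fun t ht => (hT t ht).1) fun t _ => hcpl t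
  obtain ⟨X₁, b, hb⟩ := Groth.L13.BU.exists_isBlowUp 𝓘
  have hsupp' : (𝓘.support : Set Xn) ⊆ T := hsupp.trans hTc.closure_subset
  haveI := Groth.L05.MinModel.isOpenImmersion_model hg₁
  have hdisj : Disjoint (𝓘.support : Set Xn) g₁.opensRange := Set.disjoint_left.2 fun z hz hzG => by
    have h1 : z ∈ pn ⁻¹' {closedPoint R}ᶜ := by rw [← Groth.L05.MinModel.range_model hg₁]; exact hzG
    exact h1 (hT z (hsupp' hz)).2.2
  have hne : 𝓘 ≠ ⊥ := fun h0 => Set.disjoint_left.1 hdisj
    (show g₁ (genericPoint C) ∈ (𝓘.support : Set Xn) by rw [h0]; simp) ⟨_, rfl⟩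
  obtain ⟨hX₁, -, -⟩ := Groth.L16.Blow.isIntegral_and_birational hb hne
  haveI := hX₁
  haveI : IsProper b := Groth.L13.BU.isProper_blowUp hb (isFiniteType_of_noetherian _)
  obtain ⟨g₂, -, hg₂⟩ := exists_model_over b hg₁ (isIso_restrict_of_disjoint hb _ hdisj)
  haveI : IsProper (b ≫ pn) := inferInstance
  haveI : IsLocallyNoetherian X₁ := LocallyOfFiniteType.isLocallyNoetherian (b ≫ pn)
  haveI : CompactSpace X₁ := QuasiCompact.compactSpace_of_compactSpace (b ≫ pn)
  haveI : AlgebraicGeometry.IsNoetherian X₁ := {}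
  refine ⟨X₁, b ≫ pn, ⟨Groth.L05.MinModel.flat_model hg₂, inferInstance, inferInstance, g₂, hg₂⟩, inferInstance, fun x => ?_⟩
  by_cases hx : b x ∈ T
  · exact hres X₁ b hb x hx
  · let U : Xn.Opens := ⟨Tᶜ, hTc.isOpen_compl⟩
    haveI := isIso_restrict_of_disjoint hb U (Set.disjoint_left.2 fun z hz hzU => hzU (hsupp' hz))
    haveI : IsIso (b.stalkMap x) :=
      ((MorphismProperty.isomorphisms CommRingCat).arrow_mk_iso_iff (morphismRestrictStalkMap b U ⟨x, hx⟩)).1
        inferInstance
    haveI : IsRegularLocalRing (Xn.presheaf.stalk (b x)) := not_not.1 hx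
    exact IsRegularLocalRing.of_ringEquiv (asIso (b.stalkMap x)).commRingCatIsoToRingEquiv

end Groth.L05.PtChain
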