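import Groth.Agent.L05.PtChain.Geo.Blow
import Groth.Agent.L03.RegularNormal
import Mathlib.Order.WellFounded

/-! Resolution of rational singularities by point blow-ups. -/

set_option autoImplicit false
set_option maxSynthPendingDepth 5
set_option linter.style.haveILetI false
set_option backward.isDefEq.respectTransparency false
set_option backward.isDefEq.respectTransparency.types false
set_option maxHeartbeats 800000

universe u

open CategoryTheory CategoryTheory.Limits AlgebraicGeometry TopologicalSpace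

noncomputable section

namespace Groth.L05.PtChain

theorem IsPtStep.comp_ringEquiv {S₀ S S' : Type u} [CommRing S₀] [IsLocalRing S₀] [CommRing S] [IsLocalRing S]
    [CommRing S'] {φ : S₀ →+* S} (h : IsPtStep φ) (e : S ≃+* S') : IsPtStep ((e : S →+* S').comp φ) := by
  obtain ⟨a, ha, q, hq, hna, hqm, e₀, he⟩ := h
  exact ⟨a, ha, q, hq, hna, hqm, e₀.trans e, fun x => congrArg e (he x)⟩

variable (A : Type u) [CommRing A]

/-- A singular point of a modification. -/
structure SPt where
  X : Scheme.{u}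
  f : X ⟶ Spec (CommRingCat.of A)
  hf : RMod f
  x : X
  hx : Sing X x

variable {A}

/-- A singular point lies over another one. -/
def Below (q p : SPt A) : Prop := ∃ φ : p.X.presheaf.stalk p.x →+* q.X.presheaf.stalk q.x, IsPtStep φ

variable [IsNoetherianRing A] [IsDomain A] [IsLocalRing A]

theorem wellFounded_below (hA : EGA4.IsExcellent A) (hdim : ringKrullDim A = 2) :
    WellFounded (Below (A := A)) := by
  rw [wellFounded_iff_isEmpty_descending_chain]
  refine ⟨fun ⟨p, hp⟩ => ?_⟩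
  haveI : ∀ n, IsNoetherianRing ((p n).X.presheaf.stalk (p n).x) := fun n => by
    haveI := (p n).hf.noetherian; infer_instance
  exact no_chain (U := fun n => (p n).X.presheaf.stalk (p n).x) (fun n => (p n).hf.good hA hdim (p n).hx)
    (φ := fun n => (hp n).choose) (fun n => (hp n).choose_spec)

/-- The singular point can be resolved. -/
def Resolves (p : SPt A) (hcl : IsClosed ({p.x} : Set p.X)) : Prop :=
  ∃ (X' : Scheme.{u}) (h : X' ⟶ p.X), RMod (h ≫ p.f) ∧ IsProper h ∧
    IsIso (h ∣_ (⟨{p.x}ᶜ, hcl.isOpen_compl⟩ : p.X.Opens)) ∧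
    ∀ x', h x' = p.x → IsRegularLocalRing (X'.presheaf.stalk x')

theorem isIso_restrict_comp {Z Y X : Scheme.{u}} (g : Z ⟶ Y) (h : Y ⟶ X) (U : X.Opens) (V : Y.Opens)
    (hV : h ⁻¹ᵁ U ≤ V) [IsIso (h ∣_ U)] [IsIso (g ∣_ V)] : IsIso ((g ≫ h) ∣_ U) := by
  haveI := Groth.L13.Contraction.isIso_restrict_mono g hV
  rw [morphismRestrict_comp]
  exact IsIso.comp_isIso' inferInstance inferInstance

/-- Finitely many singular points can be resolved. -/
theorem resolve_finset (hdim : ringKrullDim A = 2) {X : Scheme.{u}} {f : X ⟶ Spec (CommRingCat.of A)} (hf : RMod f)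
    (S : Finset X) (hS : ∀ z ∈ S, Sing X z)
    (IH : ∀ q : SPt A, (∃ z ∈ S, Nonempty (X.presheaf.stalk z ≃+* q.X.presheaf.stalk q.x)) →
      ∀ hcl, Resolves q hcl) (hSc : IsClosed (S : Set X)) :
    ∃ (X' : Scheme.{u}) (h : X' ⟶ X), RMod (h ≫ f) ∧ IsProper h ∧
      IsIso (h ∣_ (⟨(S : Set X)ᶜ, hSc.isOpen_compl⟩ : X.Opens)) ∧
      ∀ x', h x' ∈ S → IsRegularLocalRing (X'.presheaf.stalk x') := by
  classical
  induction S using Finset.induction_on with
  | empty =>
    refine ⟨X, 𝟙 X, by rwa [Category.id_comp], inferInstance, inferInstance, fun x' hx' => absurd hx' (by simp)⟩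
  | insert z S hzS ih =>
    have hzc := hf.sing_closed hdim (hS z (Finset.mem_insert_self _ _))
    have hSc' : IsClosed (S : Set X) := by
      have h1 : (S : Set X) = ⋃ w ∈ S, ({w} : Set X) := by ext; simp
      rw [h1]
      exact isClosed_biUnion_finset fun w hw => hf.sing_closed hdim (hS w (Finset.mem_insert_of_mem hw))
    obtain ⟨X₂, h₂, hR₂, hp₂, hi₂, hreg₂⟩ := ih (fun w hw => hS w (Finset.mem_insert_of_mem hw))
      (fun q ⟨w, hw, he⟩ => IH q ⟨w, Finset.mem_insert_of_mem hw, he⟩) hSc'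
    haveI := hp₂
    haveI := hi₂
    set U : X.Opens := ⟨(S : Set X)ᶜ, hSc'.isOpen_compl⟩
    have hzU : z ∈ U := hzS
    obtain ⟨⟨z', hz'U⟩, hz'⟩ := (h₂ ∣_ U).homeomorph.surjective ⟨z, hzU⟩
    have hz'z : h₂ z' = z := by
      have h5 := congrArg (fun w : U => (w : X)) hz'
      exact (morphismRestrict_base_coe h₂ U ⟨z', hz'U⟩).symm.trans h5
    have huniq : ∀ w, h₂ w = z → w = z' := by
      intro w hw
      have hwU : w ∈ h₂ ⁻¹ᵁ U := by show h₂ w ∈ U; rw [hw]; exact hzU
      have h5 : (h₂ ∣_ U).homeomorph ⟨w, hwU⟩ = (h₂ ∣_ U).homeomorph ⟨z', hz'U⟩ := by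
        rw [hz']
        apply Subtype.ext
        exact (morphismRestrict_base_coe h₂ U ⟨w, hwU⟩).trans hw
      exact congrArg Subtype.val ((h₂ ∣_ U).homeomorph.injective h5)
    subst hz'z
    haveI := Groth.L05.PtSeq.isIso_stalkMap_of_restrict h₂ U (x := z') hzU
    let e := (asIso (h₂.stalkMap z')).commRingCatIsoToRingEquiv
    have hsz : Sing X₂ z' := fun hr => hS _ (Finset.mem_insert_self _ _) (by
      haveI := hr; exact IsRegularLocalRing.of_ringEquiv e.symm)
    let q : SPt A := ⟨X₂, h₂ ≫ f, hR₂, z', hsz⟩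
    have hz'c : IsClosed ({z'} : Set X₂) := hR₂.sing_closed hdim hsz
    obtain ⟨X₃, h₃, hR₃, hp₃, hi₃, hreg₃⟩ := IH q ⟨_, Finset.mem_insert_self _ _, ⟨e⟩⟩ hz'c
    haveI := hp₃
    haveI := hi₃
    refine ⟨X₃, h₃ ≫ h₂, ?_, inferInstance, ?_, ?_⟩
    · rw [Category.assoc]; exact hR₃
    · have hle : (⟨((insert (h₂ z') S : Finset X) : Set X)ᶜ, hSc.isOpen_compl⟩ : X.Opens) ≤ U := fun w hw hwS =>
        hw (Finset.mem_insert_of_mem hwS)
      haveI := Groth.L13.Contraction.isIso_restrict_mono h₂ hle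
      refine isIso_restrict_comp h₃ h₂ _ (⟨{z'}ᶜ, hz'c.isOpen_compl⟩ : X₂.Opens) fun w hw hwz => ?_
      rw [Set.mem_singleton_iff] at hwz
      refine hw ?_
      rw [hwz]
      exact Finset.mem_insert_self _ _
    · intro x' hx'
      by_cases hx3 : h₃ x' = z'
      · exact hreg₃ x' hx3
      · rw [Scheme.Hom.comp_apply, Finset.mem_insert] at hx'
        rcases hx' with hx' | hx'
        · exact absurd (huniq _ hx') hx3
        · haveI := Groth.L05.PtSeq.isIso_stalkMap_of_restrict h₃ (⟨{z'}ᶜ, hz'c.isOpen_compl⟩ : X₂.Opens) (x := x') hx3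
          haveI := hreg₂ _ hx'
          exact IsRegularLocalRing.of_ringEquiv (asIso (h₃.stalkMap x')).commRingCatIsoToRingEquiv

theorem resolves (hA : EGA4.IsExcellent A) (hdim : ringKrullDim A = 2) (p : SPt A) :
    ∀ hcl, Resolves p hcl := by
  classical
  induction p using (wellFounded_below hA hdim).induction with
  | _ p ihp =>
    intro hcl
    obtain ⟨X₁, b, hR₁, hpb, hib, hstep⟩ := exists_blow hA hdim p.hf p.hx
    haveI := hpb
    set S := (hR₁.sing_finite hA hdim).toFinset.filter fun x₁ => b x₁ = p.x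
    have hS : ∀ z ∈ S, Sing X₁ z ∧ b z = p.x := fun z hz => by
      simpa [S] using hz
    have hSc : IsClosed (S : Set X₁) := by
      have h1 : (S : Set X₁) = ⋃ w ∈ S, ({w} : Set X₁) := by ext; simp
      rw [h1]
      exact isClosed_biUnion_finset fun w hw => hR₁.sing_closed hdim (hS w hw).1
    obtain ⟨X₂, h, hR₂, hph, hih, hreg⟩ := resolve_finset hdim hR₁ S (fun z hz => (hS z hz).1)
      (fun q ⟨z, hz, ⟨e⟩⟩ => ihp q (by
        obtain ⟨φ, hφ⟩ := hstep z (hS z hz).2 (hS z hz).1
        exact ⟨_, hφ.comp_ringEquiv e⟩)) hSc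
    haveI := hph
    haveI := hih
    haveI := hib
    refine ⟨X₂, h ≫ b, by rw [Category.assoc]; exact hR₂, inferInstance, ?_, ?_⟩
    · refine isIso_restrict_comp h b _ (⟨(S : Set X₁)ᶜ, hSc.isOpen_compl⟩ : X₁.Opens) fun w hw hwS => ?_
      exact hw (hS w hwS).2
    · intro x' hx'
      rw [Scheme.Hom.comp_apply] at hx'
      by_cases hs : h x' ∈ S
      · exact hreg x' hs
      · haveI := Groth.L05.PtSeq.isIso_stalkMap_of_restrict h (⟨(S : Set X₁)ᶜ, hSc.isOpen_compl⟩ : X₁.Opens) (x := x') hs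
        haveI : IsRegularLocalRing (X₁.presheaf.stalk (h x')) := by
          by_contra hns
          exact hs (Finset.mem_filter.2 ⟨(Set.Finite.mem_toFinset _).2 hns, hx'⟩)
        exact IsRegularLocalRing.of_ringEquiv (asIso (h.stalkMap x')).commRingCatIsoToRingEquiv

/-- A normal modification with rational singularities is dominated by a regular one. -/
theorem exists_regular (hA : EGA4.IsExcellent A) (hdim : ringKrullDim A = 2) {X : Scheme.{u}}
    {f : X ⟶ Spec (CommRingCat.of A)} (hf : RMod f) :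
    ∃ (X' : Scheme.{u}) (h : X' ⟶ X), RMod (h ≫ f) ∧ IsProper h ∧
      ∀ x' : X', IsRegularLocalRing (X'.presheaf.stalk x') := by
  classical
  set S := (hf.sing_finite hA hdim).toFinset
  have hS : ∀ z ∈ S, Sing X z := fun z hz => (Set.Finite.mem_toFinset _).1 hz
  have hSc : IsClosed (S : Set X) := by
    rw [Set.Finite.coe_toFinset, show {x : X | Sing X x} = {x : X | ¬ Sing X x}ᶜ by ext; simp]
    exact (hf.isOpen_regular hA).isClosed_compl
  obtain ⟨X', h, hR, hp, hi, hreg⟩ := resolve_finset hdim hf S hS (fun q _ => resolves hA hdim q) hSc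
  refine ⟨X', h, hR, hp, fun x' => ?_⟩
  by_cases hs : h x' ∈ S
  · exact hreg x' hs
  · haveI := hi
    haveI := Groth.L05.PtSeq.isIso_stalkMap_of_restrict h (⟨(S : Set X)ᶜ, hSc.isOpen_compl⟩ : X.Opens) (x := x') hs
    haveI : IsRegularLocalRing (X.presheaf.stalk (h x')) := by
      by_contra hns
      exact hs ((Set.Finite.mem_toFinset _).2 hns)
    exact IsRegularLocalRing.of_ringEquiv (asIso (h.stalkMap x')).commRingCatIsoToRingEquiv

end Groth.L05.PtChain
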