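import Groth.Agent.L05.PtChain.Geo.Alteration
import Groth.Agent.L05.PtChain.Geo.QExc
import Groth.Agent.L05.PtSeq.NormNagata
import Groth.Agent.L18.ValCritEss

/-! Resolution of surfaces of finite type over an excellent base. -/

set_option autoImplicit false
set_option maxSynthPendingDepth 5
set_option linter.style.haveILetI false
set_option backward.isDefEq.respectTransparency false
set_option backward.isDefEq.respectTransparency.types false
set_option maxHeartbeats 800000

universe u

open CategoryTheory CategoryTheory.Limits AlgebraicGeometry TopologicalSpace IsLocalRing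

noncomputable section

namespace Groth.L05.PtChain

/-- An integral surface of finite type over an excellent scheme has a projective resolution. -/
theorem exists_projective_resolution {X S : Scheme.{u}} (p : X ⟶ S) [LocallyOfFiniteType p] [IsIntegral X]
    [AlgebraicGeometry.IsNoetherian X] (hexc : ∀ U : S.affineOpens, EGA4.IsExcellent Γ(S, U))
    (hdim : topologicalKrullDim X ≤ 2) :
    ∃ (X₁ : Scheme.{u}) (φ : X₁ ⟶ X), RelProj.IsProjective φ ∧ IsProper φ ∧ IsIntegral X₁ ∧
      (∃ V : X.Opens, (V : Set X).Nonempty ∧ IsIso (φ ∣_ V)) ∧
      ∀ x : X₁, IsRegularLocalRing (X₁.presheaf.stalk x) := by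
  obtain ⟨hint, hn, -⟩ := Groth.Agent.S2351.result X
  haveI := hint
  have hN : ∀ U : X.affineOpens, CAlg.IsNagata Γ(X, U.1) :=
    Groth.L05.PtSeq.isNagata_affineOpens_of_lft p (Groth.L18.ValCritEss.nagata_of_excellent hexc)
  haveI := Groth.L22.Norm.isFinite_normalizationι X hN
  let ν := Curv2.normalizationι X
  haveI : IsFinite ν := ‹_›
  haveI : IsLocallyNoetherian (Curv2.normalization X) := LocallyOfFiniteType.isLocallyNoetherian ν
  haveI : CompactSpace (Curv2.normalization X) := QuasiCompact.compactSpace_of_compactSpace ν
  haveI : AlgebraicGeometry.IsNoetherian (Curv2.normalization X) := {}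
  have hE := exists_excellent_nhd (ν ≫ p) hexc
  have hopen := isOpen_regular_of_nhds (X := Curv2.normalization X) fun z => by
    obtain ⟨V, hz, hV⟩ := hE z
    exact ⟨V, hz, hV.2.2.2⟩
  have hd' : topologicalKrullDim (Curv2.normalization X) ≤ 2 :=
    (Groth.L19.topologicalKrullDim_le_of_isIntegralHom ν).trans hdim
  refine projective_resolution_of_normalization X hdim ?_ fun y hy => ?_
  · refine Groth.L18.Curve.finite_of_forall_isClosed hopen.isClosed_compl fun y hy => ?_
    haveI := (hn y).1
    haveI := (hn y).2
    haveI : IsNoetherianRing ((Curv2.normalization X).presheaf.stalk y) :=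
      Groth.L14.RegImmStalk.isNoetherianRing_stalk' (X := Curv2.normalization X) y
    have h2 : 2 ≤ ringKrullDim ((Curv2.normalization X).presheaf.stalk y) := by
      by_contra hlt
      exact hy (Groth.L06.NormalAscent.regular_of_normal_dim_le_one (dim_le_one_of_lt_two hlt))
    exact closure_subset_iff_isClosed.1 fun d hd'' =>
      Groth.L05.RelMinExists.eq_of_dim_two_le hd' h2 (specializes_iff_mem_closure.2 hd'')
  · haveI := (hn y).1
    haveI := (hn y).2
    haveI : IsNoetherianRing ((Curv2.normalization X).presheaf.stalk y) :=
      Groth.L14.RegImmStalk.isNoetherianRing_stalk' (X := Curv2.normalization X) y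
    obtain ⟨V, hy', hV⟩ := hE y
    exact completion_normal_of_gRing _ (gRing_stalk_of_nhd V hy' hV.2.2.1)

end Groth.L05.PtChain
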